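import Cfsg.Agent.Lib.Helper28.TC2Range
import Cfsg.Agent.Lib.Helper21.Co2S.ECo2Data
set_option autoImplicit false
set_option maxRecDepth 100000
set_option maxHeartbeats 0

namespace Cfsg.Agent.Lib.Helper21.Co2S.ECo2M4
open Cfsg.Agent.Lib.Helper28.TC2Upper Cfsg.Agent.Lib.Helper28.TC2Lower Cfsg.Agent.Lib.Helper28.TC2Range Cfsg.Agent.Lib.Helper21.Co2S.ECo2Data

theorem fin19 : Data.finalRange data 114000 6000 = true := by decide +kernel
theorem fin20 : Data.finalRange data 120000 6000 = true := by decide +kernel
theorem fin21 : Data.finalRange data 126000 6000 = true := by decide +kernel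
theorem fin22 : Data.finalRange data 132000 6000 = true := by decide +kernel
theorem fin23 : Data.finalRange data 138000 6000 = true := by decide +kernel

end Cfsg.Agent.Lib.Helper21.Co2S.ECo2M4
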