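import Cfsg.Agent.Lib.Helper28.TC2Range
import Cfsg.Agent.Lib.Helper21.Co2S.ECo2Data
set_option autoImplicit false
set_option maxRecDepth 100000
set_option maxHeartbeats 0

namespace Cfsg.Agent.Lib.Helper21.Co2S.ECo2M8
open Cfsg.Agent.Lib.Helper28.TC2Upper Cfsg.Agent.Lib.Helper28.TC2Lower Cfsg.Agent.Lib.Helper28.TC2Range Cfsg.Agent.Lib.Helper21.Co2S.ECo2Data

theorem cnt9 : Data.countFrom data 54000 6000 = 57 := by decide +kernel
theorem cnt10 : Data.countFrom data 60000 6000 = 3 := by decide +kernel
theorem cnt11 : Data.countFrom data 66000 6000 = 18 := by decide +kernel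
theorem cnt12 : Data.countFrom data 72000 6000 = 31 := by decide +kernel
theorem cnt13 : Data.countFrom data 78000 6000 = 29 := by decide +kernel

end Cfsg.Agent.Lib.Helper21.Co2S.ECo2M8
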