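import Cfsg.Agent.Lib.Helper21.Co2S.ECo2Data
set_option autoImplicit false
set_option maxRecDepth 100000
set_option maxHeartbeats 0

namespace Cfsg.Agent.Lib.Helper21.Co2S.ECo2U1
open Cfsg.Agent.Lib.Helper28.TC2Upper Cfsg.Agent.Lib.Helper21.Co2S.ECo2Data

theorem chk5 : data.checkRange 2177 441 = true := by decide +kernel
theorem chk6 : data.checkRange 2618 472 = true := by decide +kernel
theorem chk7 : data.checkRange 3090 493 = true := by decide +kernel
theorem chk8 : data.checkRange 3583 493 = true := by decide +kernel
theorem chk9 : data.checkRange 4076 513 = true := by decide +kernel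

end Cfsg.Agent.Lib.Helper21.Co2S.ECo2U1
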