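import Cfsg.Agent.Lib.Helper21.Co2S.ECo2Data
import Cfsg.Agent.Lib.Helper21.Co2S.ECo2U3
set_option autoImplicit false
set_option maxRecDepth 100000
set_option maxHeartbeats 0

namespace Cfsg.Agent.Lib.Helper21.Co2S.ECo2U11
open Cfsg.Agent.Lib.Helper28.TC2Upper Cfsg.Agent.Lib.Helper21.Co2S.ECo2Data

theorem chk55 : data.checkRange 32307 627 = true := by decide +kernel
theorem chk56 : data.checkRange 32934 801 = true := by decide +kernel
theorem chk57 : data.checkRange 33735 783 = true := by decide +kernel
theorem chk58 : data.checkRange 34518 794 = true := by decide +kernel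
theorem chk59 : data.checkRange 35312 945 = true := by decide +kernel

end Cfsg.Agent.Lib.Helper21.Co2S.ECo2U11
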