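import Cfsg.Agent.Lib.Helper21.Co2S.ECo2Data
import Cfsg.Agent.Lib.Helper21.Co2S.ECo2U6
set_option autoImplicit false
set_option maxRecDepth 100000
set_option maxHeartbeats 0

namespace Cfsg.Agent.Lib.Helper21.Co2S.ECo2U14
open Cfsg.Agent.Lib.Helper28.TC2Upper Cfsg.Agent.Lib.Helper21.Co2S.ECo2Data

theorem chk70 : data.checkRange 45261 1035 = true := by decide +kernel
theorem chk71 : data.checkRange 46296 1016 = true := by decide +kernel
theorem chk72 : data.checkRange 47312 958 = true := by decide +kernel
theorem chk73 : data.checkRange 48270 837 = true := by decide +kernel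
theorem chk74 : data.checkRange 49107 831 = true := by decide +kernel

end Cfsg.Agent.Lib.Helper21.Co2S.ECo2U14
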