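import Cfsg.Agent.Lib.Helper21.Co2S.ECo2Data
set_option autoImplicit false
set_option maxRecDepth 100000
set_option maxHeartbeats 0

namespace Cfsg.Agent.Lib.Helper21.Co2S.ECo2U7
open Cfsg.Agent.Lib.Helper28.TC2Upper Cfsg.Agent.Lib.Helper21.Co2S.ECo2Data

theorem chk35 : data.checkRange 19044 746 = true := by decide +kernel
theorem chk36 : data.checkRange 19790 615 = true := by decide +kernel
theorem chk37 : data.checkRange 20405 573 = true := by decide +kernel
theorem chk38 : data.checkRange 20978 598 = true := by decide +kernel
theorem chk39 : data.checkRange 21576 609 = true := by decide +kernel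

end Cfsg.Agent.Lib.Helper21.Co2S.ECo2U7
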