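import Cfsg.Agent.Lib.Helper21.Co2S.ECo2Data
import Cfsg.Agent.Lib.Helper21.Co2S.ECo2U1
set_option autoImplicit false
set_option maxRecDepth 100000
set_option maxHeartbeats 0

namespace Cfsg.Agent.Lib.Helper21.Co2S.ECo2U9
open Cfsg.Agent.Lib.Helper28.TC2Upper Cfsg.Agent.Lib.Helper21.Co2S.ECo2Data

theorem chk45 : data.checkRange 25224 666 = true := by decide +kernel
theorem chk46 : data.checkRange 25890 671 = true := by decide +kernel
theorem chk47 : data.checkRange 26561 635 = true := by decide +kernel
theorem chk48 : data.checkRange 27196 740 = true := by decide +kernel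
theorem chk49 : data.checkRange 27936 726 = true := by decide +kernel

end Cfsg.Agent.Lib.Helper21.Co2S.ECo2U9
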