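import Cfsg.Agent.Lib.Helper21.Co2S.ECo2Data
import Cfsg.Agent.Lib.Helper21.Co2S.ECo2U10
set_option autoImplicit false
set_option maxRecDepth 100000
set_option maxHeartbeats 0

namespace Cfsg.Agent.Lib.Helper21.Co2S.ECo2U18
open Cfsg.Agent.Lib.Helper28.TC2Upper Cfsg.Agent.Lib.Helper21.Co2S.ECo2Data

theorem chk90 : data.checkRange 64329 1006 = true := by decide +kernel
theorem chk91 : data.checkRange 65335 1183 = true := by decide +kernel
theorem chk92 : data.checkRange 66518 1038 = true := by decide +kernel
theorem chk93 : data.checkRange 67556 955 = true := by decide +kernel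
theorem chk94 : data.checkRange 68511 994 = true := by decide +kernel

end Cfsg.Agent.Lib.Helper21.Co2S.ECo2U18
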