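import Cfsg.Agent.Lib.Helper21.Co2S.ECo2Data
import Cfsg.Agent.Lib.Helper21.Co2S.ECo2U14
set_option autoImplicit false
set_option maxRecDepth 100000
set_option maxHeartbeats 0

namespace Cfsg.Agent.Lib.Helper21.Co2S.ECo2U22
open Cfsg.Agent.Lib.Helper28.TC2Upper Cfsg.Agent.Lib.Helper21.Co2S.ECo2Data

theorem chk110 : data.checkRange 84103 987 = true := by decide +kernel
theorem chk111 : data.checkRange 85090 919 = true := by decide +kernel
theorem chk112 : data.checkRange 86009 981 = true := by decide +kernel
theorem chk113 : data.checkRange 86990 1095 = true := by decide +kernel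
theorem chk114 : data.checkRange 88085 1021 = true := by decide +kernel

end Cfsg.Agent.Lib.Helper21.Co2S.ECo2U22
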