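import Cfsg.Agent.Lib.Helper21.Co2S.ECo2Data
import Cfsg.Agent.Lib.Helper21.Co2S.ECo2U16
set_option autoImplicit false
set_option maxRecDepth 100000
set_option maxHeartbeats 0

namespace Cfsg.Agent.Lib.Helper21.Co2S.ECo2U24
open Cfsg.Agent.Lib.Helper28.TC2Upper Cfsg.Agent.Lib.Helper21.Co2S.ECo2Data

theorem chk120 : data.checkRange 94498 1106 = true := by decide +kernel
theorem chk121 : data.checkRange 95604 1105 = true := by decide +kernel
theorem chk122 : data.checkRange 96709 1012 = true := by decide +kernel
theorem chk123 : data.checkRange 97721 1077 = true := by decide +kernel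
theorem chk124 : data.checkRange 98798 998 = true := by decide +kernel

end Cfsg.Agent.Lib.Helper21.Co2S.ECo2U24
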