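import Cfsg.Agent.Lib.Helper21.Co2S.ECo2Data
import Cfsg.Agent.Lib.Helper21.Co2S.ECo2U17
set_option autoImplicit false
set_option maxRecDepth 100000
set_option maxHeartbeats 0

namespace Cfsg.Agent.Lib.Helper21.Co2S.ECo2U25
open Cfsg.Agent.Lib.Helper28.TC2Upper Cfsg.Agent.Lib.Helper21.Co2S.ECo2Data

theorem chk125 : data.checkRange 99796 1076 = true := by decide +kernel
theorem chk126 : data.checkRange 100872 1017 = true := by decide +kernel
theorem chk127 : data.checkRange 101889 1382 = true := by decide +kernel
theorem chk128 : data.checkRange 103271 1406 = true := by decide +kernel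
theorem chk129 : data.checkRange 104677 1370 = true := by decide +kernel

end Cfsg.Agent.Lib.Helper21.Co2S.ECo2U25
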