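import Cfsg.Agent.Lib.Helper21.Co2S.ECo2Data
import Cfsg.Agent.Lib.Helper21.Co2S.ECo2U19
set_option autoImplicit false
set_option maxRecDepth 100000
set_option maxHeartbeats 0

namespace Cfsg.Agent.Lib.Helper21.Co2S.ECo2U27
open Cfsg.Agent.Lib.Helper28.TC2Upper Cfsg.Agent.Lib.Helper21.Co2S.ECo2Data

theorem chk135 : data.checkRange 113169 1538 = true := by decide +kernel
theorem chk136 : data.checkRange 114707 1613 = true := by decide +kernel
theorem chk137 : data.checkRange 116320 1442 = true := by decide +kernel
theorem chk138 : data.checkRange 117762 1384 = true := by decide +kernel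
theorem chk139 : data.checkRange 119146 1436 = true := by decide +kernel

end Cfsg.Agent.Lib.Helper21.Co2S.ECo2U27
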