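import Cfsg.Agent.Lib.Helper21.Co2S.ECo2Data
import Cfsg.Agent.Lib.Helper21.Co2S.ECo2U20
set_option autoImplicit false
set_option maxRecDepth 100000
set_option maxHeartbeats 0

namespace Cfsg.Agent.Lib.Helper21.Co2S.ECo2U28
open Cfsg.Agent.Lib.Helper28.TC2Upper Cfsg.Agent.Lib.Helper21.Co2S.ECo2Data

theorem chk140 : data.checkRange 120582 1481 = true := by decide +kernel
theorem chk141 : data.checkRange 122063 1561 = true := by decide +kernel
theorem chk142 : data.checkRange 123624 1423 = true := by decide +kernel
theorem chk143 : data.checkRange 125047 1344 = true := by decide +kernel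
theorem chk144 : data.checkRange 126391 1389 = true := by decide +kernel

end Cfsg.Agent.Lib.Helper21.Co2S.ECo2U28
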