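import Cfsg.Agent.Lib.Helper21.Co2S.ECo2Data
import Cfsg.Agent.Lib.Helper21.Co2S.ECo2U23
set_option autoImplicit false
set_option maxRecDepth 100000
set_option maxHeartbeats 0

namespace Cfsg.Agent.Lib.Helper21.Co2S.ECo2U31
open Cfsg.Agent.Lib.Helper28.TC2Upper Cfsg.Agent.Lib.Helper21.Co2S.ECo2Data

theorem chk155 : data.checkRange 141965 1397 = true := by decide +kernel
theorem chk156 : data.checkRange 143362 1420 = true := by decide +kernel
theorem chk157 : data.checkRange 144782 1534 = true := by decide +kernel
theorem chk158 : data.checkRange 146316 1390 = true := by decide +kernel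
theorem chk159 : data.checkRange 147706 1325 = true := by decide +kernel

end Cfsg.Agent.Lib.Helper21.Co2S.ECo2U31
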