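import Cfsg.Agent.Lib.Helper21.Co2S.ECo2Data
import Cfsg.Agent.Lib.Helper21.Co2S.ECo2U24
set_option autoImplicit false
set_option maxRecDepth 100000
set_option maxHeartbeats 0

namespace Cfsg.Agent.Lib.Helper21.Co2S.ECo2U32
open Cfsg.Agent.Lib.Helper28.TC2Upper Cfsg.Agent.Lib.Helper21.Co2S.ECo2Data

theorem chk160 : data.checkRange 149031 1363 = true := by decide +kernel
theorem chk161 : data.checkRange 150394 1417 = true := by decide +kernel
theorem chk162 : data.checkRange 151811 1451 = true := by decide +kernel
theorem chk163 : data.checkRange 153262 1412 = true := by decide +kernel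
theorem chk164 : data.checkRange 154674 1525 = true := by decide +kernel

end Cfsg.Agent.Lib.Helper21.Co2S.ECo2U32
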