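import Cfsg.Agent.Lib.Helper21.Co2S.ECo2Data
import Cfsg.Agent.Lib.Helper21.Co2S.ECo2U25
set_option autoImplicit false
set_option maxRecDepth 100000
set_option maxHeartbeats 0

namespace Cfsg.Agent.Lib.Helper21.Co2S.ECo2U33
open Cfsg.Agent.Lib.Helper28.TC2Upper Cfsg.Agent.Lib.Helper21.Co2S.ECo2Data

theorem chk165 : data.checkRange 156199 1538 = true := by decide +kernel
theorem chk166 : data.checkRange 157737 1354 = true := by decide +kernel
theorem chk167 : data.checkRange 159091 1447 = true := by decide +kernel
theorem chk168 : data.checkRange 160538 1373 = true := by decide +kernel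
theorem chk169 : data.checkRange 161911 1304 = true := by decide +kernel

end Cfsg.Agent.Lib.Helper21.Co2S.ECo2U33
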