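import Cfsg.Agent.Lib.Helper21.Co2S.ECo2Data
import Cfsg.Agent.Lib.Helper21.Co2S.ECo2U26
set_option autoImplicit false
set_option maxRecDepth 100000
set_option maxHeartbeats 0

namespace Cfsg.Agent.Lib.Helper21.Co2S.ECo2U34
open Cfsg.Agent.Lib.Helper28.TC2Upper Cfsg.Agent.Lib.Helper21.Co2S.ECo2Data

theorem chk170 : data.checkRange 163215 1439 = true := by decide +kernel
theorem chk171 : data.checkRange 164654 1408 = true := by decide +kernel
theorem chk172 : data.checkRange 166062 1371 = true := by decide +kernel
theorem chk173 : data.checkRange 167433 1501 = true := by decide +kernel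
theorem chk174 : data.checkRange 168934 1496 = true := by decide +kernel

end Cfsg.Agent.Lib.Helper21.Co2S.ECo2U34
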