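import Cfsg.Agent.Lib.Helper21.Co2S.ECo2Data
import Cfsg.Agent.Lib.Helper21.Co2S.ECo2U27
set_option autoImplicit false
set_option maxRecDepth 100000
set_option maxHeartbeats 0

namespace Cfsg.Agent.Lib.Helper21.Co2S.ECo2U35
open Cfsg.Agent.Lib.Helper28.TC2Upper Cfsg.Agent.Lib.Helper21.Co2S.ECo2Data

theorem chk175 : data.checkRange 170430 1424 = true := by decide +kernel
theorem chk176 : data.checkRange 171854 1501 = true := by decide +kernel
theorem chk177 : data.checkRange 173355 1516 = true := by decide +kernel
theorem chk178 : data.checkRange 174871 1447 = true := by decide +kernel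
theorem chk179 : data.checkRange 176318 1488 = true := by decide +kernel

end Cfsg.Agent.Lib.Helper21.Co2S.ECo2U35
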