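import Cfsg.Agent.Lib.Helper28.TC2Glue
import Cfsg.Agent.Lib.Helper28.TC2Range
import Cfsg.Agent.Lib.Helper21.Co2S.ECo2Link
import Cfsg.Agent.Lib.Helper21.Co2S.ECo2M0
import Cfsg.Agent.Lib.Helper21.Co2S.ECo2M1
import Cfsg.Agent.Lib.Helper21.Co2S.ECo2M2
import Cfsg.Agent.Lib.Helper21.Co2S.ECo2M3
import Cfsg.Agent.Lib.Helper21.Co2S.ECo2M4
import Cfsg.Agent.Lib.Helper21.Co2S.ECo2M5
import Cfsg.Agent.Lib.Helper21.Co2S.ECo2M6
import Cfsg.Agent.Lib.Helper21.Co2S.ECo2M7
import Cfsg.Agent.Lib.Helper21.Co2S.ECo2M8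
import Cfsg.Agent.Lib.Helper21.Co2S.ECo2M9
import Cfsg.Agent.Lib.Helper21.Co2S.ECo2M10
import Cfsg.Agent.Lib.Helper21.Co2S.ECo2M11
import Cfsg.Agent.Lib.Helper21.Co2S.ECo2M12
import Cfsg.Agent.Lib.Helper21.Co2S.ECo2U0
import Cfsg.Agent.Lib.Helper21.Co2S.ECo2U1
import Cfsg.Agent.Lib.Helper21.Co2S.ECo2U2
import Cfsg.Agent.Lib.Helper21.Co2S.ECo2U3
import Cfsg.Agent.Lib.Helper21.Co2S.ECo2U4
import Cfsg.Agent.Lib.Helper21.Co2S.ECo2U5
import Cfsg.Agent.Lib.Helper21.Co2S.ECo2U6
import Cfsg.Agent.Lib.Helper21.Co2S.ECo2U7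
import Cfsg.Agent.Lib.Helper21.Co2S.ECo2U8
import Cfsg.Agent.Lib.Helper21.Co2S.ECo2U9
import Cfsg.Agent.Lib.Helper21.Co2S.ECo2U10
import Cfsg.Agent.Lib.Helper21.Co2S.ECo2U11
import Cfsg.Agent.Lib.Helper21.Co2S.ECo2U12
import Cfsg.Agent.Lib.Helper21.Co2S.ECo2U13
import Cfsg.Agent.Lib.Helper21.Co2S.ECo2U14
import Cfsg.Agent.Lib.Helper21.Co2S.ECo2U15
import Cfsg.Agent.Lib.Helper21.Co2S.ECo2U16
import Cfsg.Agent.Lib.Helper21.Co2S.ECo2U17
import Cfsg.Agent.Lib.Helper21.Co2S.ECo2U18
import Cfsg.Agent.Lib.Helper21.Co2S.ECo2U19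
import Cfsg.Agent.Lib.Helper21.Co2S.ECo2U20
import Cfsg.Agent.Lib.Helper21.Co2S.ECo2U21
import Cfsg.Agent.Lib.Helper21.Co2S.ECo2U22
import Cfsg.Agent.Lib.Helper21.Co2S.ECo2U23
import Cfsg.Agent.Lib.Helper21.Co2S.ECo2U24
import Cfsg.Agent.Lib.Helper21.Co2S.ECo2U25
import Cfsg.Agent.Lib.Helper21.Co2S.ECo2U26
import Cfsg.Agent.Lib.Helper21.Co2S.ECo2U27
import Cfsg.Agent.Lib.Helper21.Co2S.ECo2U28
import Cfsg.Agent.Lib.Helper21.Co2S.ECo2U29
import Cfsg.Agent.Lib.Helper21.Co2S.ECo2U30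
import Cfsg.Agent.Lib.Helper21.Co2S.ECo2U31
import Cfsg.Agent.Lib.Helper21.Co2S.ECo2U32
import Cfsg.Agent.Lib.Helper21.Co2S.ECo2U33
import Cfsg.Agent.Lib.Helper21.Co2S.ECo2U34
import Cfsg.Agent.Lib.Helper21.Co2S.ECo2U35
import Cfsg.Agent.Lib.Helper21.Co2S.ECo2U36

set_option autoImplicit false
set_option maxRecDepth 100000
open Cfsg

namespace Cfsg.Agent.Lib.Helper21.Co2S.ECo2MainU
open Cfsg.Agent.Lib.Helper28.TC2Upper Cfsg.Agent.Lib.Helper28.TC2Lower Cfsg.Agent.Lib.Helper28.TC2Glue Cfsg.Agent.Lib.Helper28.TC2Range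
open Cfsg.Agent.Lib.Helper21.Co2S.ECo2Data Cfsg.Agent.Lib.Helper21.Co2S.ECo2Table Cfsg.Agent.Lib.Helper21.Co2S.ECo2Link

theorem hchk : ∀ v, v < data.N → data.checkNode v = true := by
  intro v hv
  have hv' : v < 178947 := hv
  rcases Nat.lt_or_ge v 481 with h0 | h0
  · exact (data.checkRange_iff 0 481).mp Cfsg.Agent.Lib.Helper21.Co2S.ECo2U0.chk0 v (by omega) (by omega)
  rcases Nat.lt_or_ge v 895 with h1 | h1
  · exact (data.checkRange_iff 481 414).mp Cfsg.Agent.Lib.Helper21.Co2S.ECo2U0.chk1 v (by omega) (by omega)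
  rcases Nat.lt_or_ge v 1312 with h2 | h2
  · exact (data.checkRange_iff 895 417).mp Cfsg.Agent.Lib.Helper21.Co2S.ECo2U0.chk2 v (by omega) (by omega)
  rcases Nat.lt_or_ge v 1742 with h3 | h3
  · exact (data.checkRange_iff 1312 430).mp Cfsg.Agent.Lib.Helper21.Co2S.ECo2U0.chk3 v (by omega) (by omega)
  rcases Nat.lt_or_ge v 2177 with h4 | h4
  · exact (data.checkRange_iff 1742 435).mp Cfsg.Agent.Lib.Helper21.Co2S.ECo2U0.chk4 v (by omega) (by omega)
  rcases Nat.lt_or_ge v 2618 with h5 | h5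
  · exact (data.checkRange_iff 2177 441).mp Cfsg.Agent.Lib.Helper21.Co2S.ECo2U1.chk5 v (by omega) (by omega)
  rcases Nat.lt_or_ge v 3090 with h6 | h6
  · exact (data.checkRange_iff 2618 472).mp Cfsg.Agent.Lib.Helper21.Co2S.ECo2U1.chk6 v (by omega) (by omega)
  rcases Nat.lt_or_ge v 3583 with h7 | h7
  · exact (data.checkRange_iff 3090 493).mp Cfsg.Agent.Lib.Helper21.Co2S.ECo2U1.chk7 v (by omega) (by omega)
  rcases Nat.lt_or_ge v 4076 with h8 | h8
  · exact (data.checkRange_iff 3583 493).mp Cfsg.Agent.Lib.Helper21.Co2S.ECo2U1.chk8 v (by omega) (by omega)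
  rcases Nat.lt_or_ge v 4589 with h9 | h9
  · exact (data.checkRange_iff 4076 513).mp Cfsg.Agent.Lib.Helper21.Co2S.ECo2U1.chk9 v (by omega) (by omega)
  rcases Nat.lt_or_ge v 5043 with h10 | h10
  · exact (data.checkRange_iff 4589 454).mp Cfsg.Agent.Lib.Helper21.Co2S.ECo2U2.chk10 v (by omega) (by omega)
  rcases Nat.lt_or_ge v 5485 with h11 | h11
  · exact (data.checkRange_iff 5043 442).mp Cfsg.Agent.Lib.Helper21.Co2S.ECo2U2.chk11 v (by omega) (by omega)
  rcases Nat.lt_or_ge v 6010 with h12 | h12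
  · exact (data.checkRange_iff 5485 525).mp Cfsg.Agent.Lib.Helper21.Co2S.ECo2U2.chk12 v (by omega) (by omega)
  rcases Nat.lt_or_ge v 6525 with h13 | h13
  · exact (data.checkRange_iff 6010 515).mp Cfsg.Agent.Lib.Helper21.Co2S.ECo2U2.chk13 v (by omega) (by omega)
  rcases Nat.lt_or_ge v 7057 with h14 | h14
  · exact (data.checkRange_iff 6525 532).mp Cfsg.Agent.Lib.Helper21.Co2S.ECo2U2.chk14 v (by omega) (by omega)
  rcases Nat.lt_or_ge v 7556 with h15 | h15
  · exact (data.checkRange_iff 7057 499).mp Cfsg.Agent.Lib.Helper21.Co2S.ECo2U3.chk15 v (by omega) (by omega)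
  rcases Nat.lt_or_ge v 8067 with h16 | h16
  · exact (data.checkRange_iff 7556 511).mp Cfsg.Agent.Lib.Helper21.Co2S.ECo2U3.chk16 v (by omega) (by omega)
  rcases Nat.lt_or_ge v 8636 with h17 | h17
  · exact (data.checkRange_iff 8067 569).mp Cfsg.Agent.Lib.Helper21.Co2S.ECo2U3.chk17 v (by omega) (by omega)
  rcases Nat.lt_or_ge v 9143 with h18 | h18
  · exact (data.checkRange_iff 8636 507).mp Cfsg.Agent.Lib.Helper21.Co2S.ECo2U3.chk18 v (by omega) (by omega)
  rcases Nat.lt_or_ge v 9728 with h19 | h19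
  · exact (data.checkRange_iff 9143 585).mp Cfsg.Agent.Lib.Helper21.Co2S.ECo2U3.chk19 v (by omega) (by omega)
  rcases Nat.lt_or_ge v 10312 with h20 | h20
  · exact (data.checkRange_iff 9728 584).mp Cfsg.Agent.Lib.Helper21.Co2S.ECo2U4.chk20 v (by omega) (by omega)
  rcases Nat.lt_or_ge v 10856 with h21 | h21
  · exact (data.checkRange_iff 10312 544).mp Cfsg.Agent.Lib.Helper21.Co2S.ECo2U4.chk21 v (by omega) (by omega)
  rcases Nat.lt_or_ge v 11459 with h22 | h22
  · exact (data.checkRange_iff 10856 603).mp Cfsg.Agent.Lib.Helper21.Co2S.ECo2U4.chk22 v (by omega) (by omega)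
  rcases Nat.lt_or_ge v 12021 with h23 | h23
  · exact (data.checkRange_iff 11459 562).mp Cfsg.Agent.Lib.Helper21.Co2S.ECo2U4.chk23 v (by omega) (by omega)
  rcases Nat.lt_or_ge v 12538 with h24 | h24
  · exact (data.checkRange_iff 12021 517).mp Cfsg.Agent.Lib.Helper21.Co2S.ECo2U4.chk24 v (by omega) (by omega)
  rcases Nat.lt_or_ge v 13090 with h25 | h25
  · exact (data.checkRange_iff 12538 552).mp Cfsg.Agent.Lib.Helper21.Co2S.ECo2U5.chk25 v (by omega) (by omega)
  rcases Nat.lt_or_ge v 13719 with h26 | h26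
  · exact (data.checkRange_iff 13090 629).mp Cfsg.Agent.Lib.Helper21.Co2S.ECo2U5.chk26 v (by omega) (by omega)
  rcases Nat.lt_or_ge v 14328 with h27 | h27
  · exact (data.checkRange_iff 13719 609).mp Cfsg.Agent.Lib.Helper21.Co2S.ECo2U5.chk27 v (by omega) (by omega)
  rcases Nat.lt_or_ge v 14933 with h28 | h28
  · exact (data.checkRange_iff 14328 605).mp Cfsg.Agent.Lib.Helper21.Co2S.ECo2U5.chk28 v (by omega) (by omega)
  rcases Nat.lt_or_ge v 15505 with h29 | h29
  · exact (data.checkRange_iff 14933 572).mp Cfsg.Agent.Lib.Helper21.Co2S.ECo2U5.chk29 v (by omega) (by omega)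
  rcases Nat.lt_or_ge v 16213 with h30 | h30
  · exact (data.checkRange_iff 15505 708).mp Cfsg.Agent.Lib.Helper21.Co2S.ECo2U6.chk30 v (by omega) (by omega)
  rcases Nat.lt_or_ge v 16879 with h31 | h31
  · exact (data.checkRange_iff 16213 666).mp Cfsg.Agent.Lib.Helper21.Co2S.ECo2U6.chk31 v (by omega) (by omega)
  rcases Nat.lt_or_ge v 17609 with h32 | h32
  · exact (data.checkRange_iff 16879 730).mp Cfsg.Agent.Lib.Helper21.Co2S.ECo2U6.chk32 v (by omega) (by omega)
  rcases Nat.lt_or_ge v 18340 with h33 | h33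
  · exact (data.checkRange_iff 17609 731).mp Cfsg.Agent.Lib.Helper21.Co2S.ECo2U6.chk33 v (by omega) (by omega)
  rcases Nat.lt_or_ge v 19044 with h34 | h34
  · exact (data.checkRange_iff 18340 704).mp Cfsg.Agent.Lib.Helper21.Co2S.ECo2U6.chk34 v (by omega) (by omega)
  rcases Nat.lt_or_ge v 19790 with h35 | h35
  · exact (data.checkRange_iff 19044 746).mp Cfsg.Agent.Lib.Helper21.Co2S.ECo2U7.chk35 v (by omega) (by omega)
  rcases Nat.lt_or_ge v 20405 with h36 | h36
  · exact (data.checkRange_iff 19790 615).mp Cfsg.Agent.Lib.Helper21.Co2S.ECo2U7.chk36 v (by omega) (by omega)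
  rcases Nat.lt_or_ge v 20978 with h37 | h37
  · exact (data.checkRange_iff 20405 573).mp Cfsg.Agent.Lib.Helper21.Co2S.ECo2U7.chk37 v (by omega) (by omega)
  rcases Nat.lt_or_ge v 21576 with h38 | h38
  · exact (data.checkRange_iff 20978 598).mp Cfsg.Agent.Lib.Helper21.Co2S.ECo2U7.chk38 v (by omega) (by omega)
  rcases Nat.lt_or_ge v 22185 with h39 | h39
  · exact (data.checkRange_iff 21576 609).mp Cfsg.Agent.Lib.Helper21.Co2S.ECo2U7.chk39 v (by omega) (by omega)
  rcases Nat.lt_or_ge v 22820 with h40 | h40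
  · exact (data.checkRange_iff 22185 635).mp Cfsg.Agent.Lib.Helper21.Co2S.ECo2U8.chk40 v (by omega) (by omega)
  rcases Nat.lt_or_ge v 23420 with h41 | h41
  · exact (data.checkRange_iff 22820 600).mp Cfsg.Agent.Lib.Helper21.Co2S.ECo2U8.chk41 v (by omega) (by omega)
  rcases Nat.lt_or_ge v 24082 with h42 | h42
  · exact (data.checkRange_iff 23420 662).mp Cfsg.Agent.Lib.Helper21.Co2S.ECo2U8.chk42 v (by omega) (by omega)
  rcases Nat.lt_or_ge v 24658 with h43 | h43
  · exact (data.checkRange_iff 24082 576).mp Cfsg.Agent.Lib.Helper21.Co2S.ECo2U8.chk43 v (by omega) (by omega)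
  rcases Nat.lt_or_ge v 25224 with h44 | h44
  · exact (data.checkRange_iff 24658 566).mp Cfsg.Agent.Lib.Helper21.Co2S.ECo2U8.chk44 v (by omega) (by omega)
  rcases Nat.lt_or_ge v 25890 with h45 | h45
  · exact (data.checkRange_iff 25224 666).mp Cfsg.Agent.Lib.Helper21.Co2S.ECo2U9.chk45 v (by omega) (by omega)
  rcases Nat.lt_or_ge v 26561 with h46 | h46
  · exact (data.checkRange_iff 25890 671).mp Cfsg.Agent.Lib.Helper21.Co2S.ECo2U9.chk46 v (by omega) (by omega)
  rcases Nat.lt_or_ge v 27196 with h47 | h47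
  · exact (data.checkRange_iff 26561 635).mp Cfsg.Agent.Lib.Helper21.Co2S.ECo2U9.chk47 v (by omega) (by omega)
  rcases Nat.lt_or_ge v 27936 with h48 | h48
  · exact (data.checkRange_iff 27196 740).mp Cfsg.Agent.Lib.Helper21.Co2S.ECo2U9.chk48 v (by omega) (by omega)
  rcases Nat.lt_or_ge v 28662 with h49 | h49
  · exact (data.checkRange_iff 27936 726).mp Cfsg.Agent.Lib.Helper21.Co2S.ECo2U9.chk49 v (by omega) (by omega)
  rcases Nat.lt_or_ge v 29443 with h50 | h50
  · exact (data.checkRange_iff 28662 781).mp Cfsg.Agent.Lib.Helper21.Co2S.ECo2U10.chk50 v (by omega) (by omega)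
  rcases Nat.lt_or_ge v 30228 with h51 | h51
  · exact (data.checkRange_iff 29443 785).mp Cfsg.Agent.Lib.Helper21.Co2S.ECo2U10.chk51 v (by omega) (by omega)
  rcases Nat.lt_or_ge v 31035 with h52 | h52
  · exact (data.checkRange_iff 30228 807).mp Cfsg.Agent.Lib.Helper21.Co2S.ECo2U10.chk52 v (by omega) (by omega)
  rcases Nat.lt_or_ge v 31708 with h53 | h53
  · exact (data.checkRange_iff 31035 673).mp Cfsg.Agent.Lib.Helper21.Co2S.ECo2U10.chk53 v (by omega) (by omega)
  rcases Nat.lt_or_ge v 32307 with h54 | h54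
  · exact (data.checkRange_iff 31708 599).mp Cfsg.Agent.Lib.Helper21.Co2S.ECo2U10.chk54 v (by omega) (by omega)
  rcases Nat.lt_or_ge v 32934 with h55 | h55
  · exact (data.checkRange_iff 32307 627).mp Cfsg.Agent.Lib.Helper21.Co2S.ECo2U11.chk55 v (by omega) (by omega)
  rcases Nat.lt_or_ge v 33735 with h56 | h56
  · exact (data.checkRange_iff 32934 801).mp Cfsg.Agent.Lib.Helper21.Co2S.ECo2U11.chk56 v (by omega) (by omega)
  rcases Nat.lt_or_ge v 34518 with h57 | h57
  · exact (data.checkRange_iff 33735 783).mp Cfsg.Agent.Lib.Helper21.Co2S.ECo2U11.chk57 v (by omega) (by omega)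
  rcases Nat.lt_or_ge v 35312 with h58 | h58
  · exact (data.checkRange_iff 34518 794).mp Cfsg.Agent.Lib.Helper21.Co2S.ECo2U11.chk58 v (by omega) (by omega)
  rcases Nat.lt_or_ge v 36257 with h59 | h59
  · exact (data.checkRange_iff 35312 945).mp Cfsg.Agent.Lib.Helper21.Co2S.ECo2U11.chk59 v (by omega) (by omega)
  rcases Nat.lt_or_ge v 37141 with h60 | h60
  · exact (data.checkRange_iff 36257 884).mp Cfsg.Agent.Lib.Helper21.Co2S.ECo2U12.chk60 v (by omega) (by omega)
  rcases Nat.lt_or_ge v 37932 with h61 | h61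
  · exact (data.checkRange_iff 37141 791).mp Cfsg.Agent.Lib.Helper21.Co2S.ECo2U12.chk61 v (by omega) (by omega)
  rcases Nat.lt_or_ge v 38763 with h62 | h62
  · exact (data.checkRange_iff 37932 831).mp Cfsg.Agent.Lib.Helper21.Co2S.ECo2U12.chk62 v (by omega) (by omega)
  rcases Nat.lt_or_ge v 39600 with h63 | h63
  · exact (data.checkRange_iff 38763 837).mp Cfsg.Agent.Lib.Helper21.Co2S.ECo2U12.chk63 v (by omega) (by omega)
  rcases Nat.lt_or_ge v 40548 with h64 | h64
  · exact (data.checkRange_iff 39600 948).mp Cfsg.Agent.Lib.Helper21.Co2S.ECo2U12.chk64 v (by omega) (by omega)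
  rcases Nat.lt_or_ge v 41581 with h65 | h65
  · exact (data.checkRange_iff 40548 1033).mp Cfsg.Agent.Lib.Helper21.Co2S.ECo2U13.chk65 v (by omega) (by omega)
  rcases Nat.lt_or_ge v 42535 with h66 | h66
  · exact (data.checkRange_iff 41581 954).mp Cfsg.Agent.Lib.Helper21.Co2S.ECo2U13.chk66 v (by omega) (by omega)
  rcases Nat.lt_or_ge v 43424 with h67 | h67
  · exact (data.checkRange_iff 42535 889).mp Cfsg.Agent.Lib.Helper21.Co2S.ECo2U13.chk67 v (by omega) (by omega)
  rcases Nat.lt_or_ge v 44327 with h68 | h68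
  · exact (data.checkRange_iff 43424 903).mp Cfsg.Agent.Lib.Helper21.Co2S.ECo2U13.chk68 v (by omega) (by omega)
  rcases Nat.lt_or_ge v 45261 with h69 | h69
  · exact (data.checkRange_iff 44327 934).mp Cfsg.Agent.Lib.Helper21.Co2S.ECo2U13.chk69 v (by omega) (by omega)
  rcases Nat.lt_or_ge v 46296 with h70 | h70
  · exact (data.checkRange_iff 45261 1035).mp Cfsg.Agent.Lib.Helper21.Co2S.ECo2U14.chk70 v (by omega) (by omega)
  rcases Nat.lt_or_ge v 47312 with h71 | h71
  · exact (data.checkRange_iff 46296 1016).mp Cfsg.Agent.Lib.Helper21.Co2S.ECo2U14.chk71 v (by omega) (by omega)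
  rcases Nat.lt_or_ge v 48270 with h72 | h72
  · exact (data.checkRange_iff 47312 958).mp Cfsg.Agent.Lib.Helper21.Co2S.ECo2U14.chk72 v (by omega) (by omega)
  rcases Nat.lt_or_ge v 49107 with h73 | h73
  · exact (data.checkRange_iff 48270 837).mp Cfsg.Agent.Lib.Helper21.Co2S.ECo2U14.chk73 v (by omega) (by omega)
  rcases Nat.lt_or_ge v 49938 with h74 | h74
  · exact (data.checkRange_iff 49107 831).mp Cfsg.Agent.Lib.Helper21.Co2S.ECo2U14.chk74 v (by omega) (by omega)
  rcases Nat.lt_or_ge v 50808 with h75 | h75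
  · exact (data.checkRange_iff 49938 870).mp Cfsg.Agent.Lib.Helper21.Co2S.ECo2U15.chk75 v (by omega) (by omega)
  rcases Nat.lt_or_ge v 51755 with h76 | h76
  · exact (data.checkRange_iff 50808 947).mp Cfsg.Agent.Lib.Helper21.Co2S.ECo2U15.chk76 v (by omega) (by omega)
  rcases Nat.lt_or_ge v 52668 with h77 | h77
  · exact (data.checkRange_iff 51755 913).mp Cfsg.Agent.Lib.Helper21.Co2S.ECo2U15.chk77 v (by omega) (by omega)
  rcases Nat.lt_or_ge v 53542 with h78 | h78
  · exact (data.checkRange_iff 52668 874).mp Cfsg.Agent.Lib.Helper21.Co2S.ECo2U15.chk78 v (by omega) (by omega)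
  rcases Nat.lt_or_ge v 54523 with h79 | h79
  · exact (data.checkRange_iff 53542 981).mp Cfsg.Agent.Lib.Helper21.Co2S.ECo2U15.chk79 v (by omega) (by omega)
  rcases Nat.lt_or_ge v 55441 with h80 | h80
  · exact (data.checkRange_iff 54523 918).mp Cfsg.Agent.Lib.Helper21.Co2S.ECo2U16.chk80 v (by omega) (by omega)
  rcases Nat.lt_or_ge v 56437 with h81 | h81
  · exact (data.checkRange_iff 55441 996).mp Cfsg.Agent.Lib.Helper21.Co2S.ECo2U16.chk81 v (by omega) (by omega)
  rcases Nat.lt_or_ge v 57387 with h82 | h82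
  · exact (data.checkRange_iff 56437 950).mp Cfsg.Agent.Lib.Helper21.Co2S.ECo2U16.chk82 v (by omega) (by omega)
  rcases Nat.lt_or_ge v 58302 with h83 | h83
  · exact (data.checkRange_iff 57387 915).mp Cfsg.Agent.Lib.Helper21.Co2S.ECo2U16.chk83 v (by omega) (by omega)
  rcases Nat.lt_or_ge v 59237 with h84 | h84
  · exact (data.checkRange_iff 58302 935).mp Cfsg.Agent.Lib.Helper21.Co2S.ECo2U16.chk84 v (by omega) (by omega)
  rcases Nat.lt_or_ge v 60379 with h85 | h85
  · exact (data.checkRange_iff 59237 1142).mp Cfsg.Agent.Lib.Helper21.Co2S.ECo2U17.chk85 v (by omega) (by omega)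
  rcases Nat.lt_or_ge v 61362 with h86 | h86
  · exact (data.checkRange_iff 60379 983).mp Cfsg.Agent.Lib.Helper21.Co2S.ECo2U17.chk86 v (by omega) (by omega)
  rcases Nat.lt_or_ge v 62298 with h87 | h87
  · exact (data.checkRange_iff 61362 936).mp Cfsg.Agent.Lib.Helper21.Co2S.ECo2U17.chk87 v (by omega) (by omega)
  rcases Nat.lt_or_ge v 63256 with h88 | h88
  · exact (data.checkRange_iff 62298 958).mp Cfsg.Agent.Lib.Helper21.Co2S.ECo2U17.chk88 v (by omega) (by omega)
  rcases Nat.lt_or_ge v 64329 with h89 | h89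
  · exact (data.checkRange_iff 63256 1073).mp Cfsg.Agent.Lib.Helper21.Co2S.ECo2U17.chk89 v (by omega) (by omega)
  rcases Nat.lt_or_ge v 65335 with h90 | h90
  · exact (data.checkRange_iff 64329 1006).mp Cfsg.Agent.Lib.Helper21.Co2S.ECo2U18.chk90 v (by omega) (by omega)
  rcases Nat.lt_or_ge v 66518 with h91 | h91
  · exact (data.checkRange_iff 65335 1183).mp Cfsg.Agent.Lib.Helper21.Co2S.ECo2U18.chk91 v (by omega) (by omega)
  rcases Nat.lt_or_ge v 67556 with h92 | h92
  · exact (data.checkRange_iff 66518 1038).mp Cfsg.Agent.Lib.Helper21.Co2S.ECo2U18.chk92 v (by omega) (by omega)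
  rcases Nat.lt_or_ge v 68511 with h93 | h93
  · exact (data.checkRange_iff 67556 955).mp Cfsg.Agent.Lib.Helper21.Co2S.ECo2U18.chk93 v (by omega) (by omega)
  rcases Nat.lt_or_ge v 69505 with h94 | h94
  · exact (data.checkRange_iff 68511 994).mp Cfsg.Agent.Lib.Helper21.Co2S.ECo2U18.chk94 v (by omega) (by omega)
  rcases Nat.lt_or_ge v 70425 with h95 | h95
  · exact (data.checkRange_iff 69505 920).mp Cfsg.Agent.Lib.Helper21.Co2S.ECo2U19.chk95 v (by omega) (by omega)
  rcases Nat.lt_or_ge v 71309 with h96 | h96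
  · exact (data.checkRange_iff 70425 884).mp Cfsg.Agent.Lib.Helper21.Co2S.ECo2U19.chk96 v (by omega) (by omega)
  rcases Nat.lt_or_ge v 72213 with h97 | h97
  · exact (data.checkRange_iff 71309 904).mp Cfsg.Agent.Lib.Helper21.Co2S.ECo2U19.chk97 v (by omega) (by omega)
  rcases Nat.lt_or_ge v 73254 with h98 | h98
  · exact (data.checkRange_iff 72213 1041).mp Cfsg.Agent.Lib.Helper21.Co2S.ECo2U19.chk98 v (by omega) (by omega)
  rcases Nat.lt_or_ge v 74183 with h99 | h99
  · exact (data.checkRange_iff 73254 929).mp Cfsg.Agent.Lib.Helper21.Co2S.ECo2U19.chk99 v (by omega) (by omega)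
  rcases Nat.lt_or_ge v 75103 with h100 | h100
  · exact (data.checkRange_iff 74183 920).mp Cfsg.Agent.Lib.Helper21.Co2S.ECo2U20.chk100 v (by omega) (by omega)
  rcases Nat.lt_or_ge v 76130 with h101 | h101
  · exact (data.checkRange_iff 75103 1027).mp Cfsg.Agent.Lib.Helper21.Co2S.ECo2U20.chk101 v (by omega) (by omega)
  rcases Nat.lt_or_ge v 77227 with h102 | h102
  · exact (data.checkRange_iff 76130 1097).mp Cfsg.Agent.Lib.Helper21.Co2S.ECo2U20.chk102 v (by omega) (by omega)
  rcases Nat.lt_or_ge v 78251 with h103 | h103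
  · exact (data.checkRange_iff 77227 1024).mp Cfsg.Agent.Lib.Helper21.Co2S.ECo2U20.chk103 v (by omega) (by omega)
  rcases Nat.lt_or_ge v 79211 with h104 | h104
  · exact (data.checkRange_iff 78251 960).mp Cfsg.Agent.Lib.Helper21.Co2S.ECo2U20.chk104 v (by omega) (by omega)
  rcases Nat.lt_or_ge v 80278 with h105 | h105
  · exact (data.checkRange_iff 79211 1067).mp Cfsg.Agent.Lib.Helper21.Co2S.ECo2U21.chk105 v (by omega) (by omega)
  rcases Nat.lt_or_ge v 81326 with h106 | h106
  · exact (data.checkRange_iff 80278 1048).mp Cfsg.Agent.Lib.Helper21.Co2S.ECo2U21.chk106 v (by omega) (by omega)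
  rcases Nat.lt_or_ge v 82268 with h107 | h107
  · exact (data.checkRange_iff 81326 942).mp Cfsg.Agent.Lib.Helper21.Co2S.ECo2U21.chk107 v (by omega) (by omega)
  rcases Nat.lt_or_ge v 83136 with h108 | h108
  · exact (data.checkRange_iff 82268 868).mp Cfsg.Agent.Lib.Helper21.Co2S.ECo2U21.chk108 v (by omega) (by omega)
  rcases Nat.lt_or_ge v 84103 with h109 | h109
  · exact (data.checkRange_iff 83136 967).mp Cfsg.Agent.Lib.Helper21.Co2S.ECo2U21.chk109 v (by omega) (by omega)
  rcases Nat.lt_or_ge v 85090 with h110 | h110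
  · exact (data.checkRange_iff 84103 987).mp Cfsg.Agent.Lib.Helper21.Co2S.ECo2U22.chk110 v (by omega) (by omega)
  rcases Nat.lt_or_ge v 86009 with h111 | h111
  · exact (data.checkRange_iff 85090 919).mp Cfsg.Agent.Lib.Helper21.Co2S.ECo2U22.chk111 v (by omega) (by omega)
  rcases Nat.lt_or_ge v 86990 with h112 | h112
  · exact (data.checkRange_iff 86009 981).mp Cfsg.Agent.Lib.Helper21.Co2S.ECo2U22.chk112 v (by omega) (by omega)
  rcases Nat.lt_or_ge v 88085 with h113 | h113
  · exact (data.checkRange_iff 86990 1095).mp Cfsg.Agent.Lib.Helper21.Co2S.ECo2U22.chk113 v (by omega) (by omega)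
  rcases Nat.lt_or_ge v 89106 with h114 | h114
  · exact (data.checkRange_iff 88085 1021).mp Cfsg.Agent.Lib.Helper21.Co2S.ECo2U22.chk114 v (by omega) (by omega)
  rcases Nat.lt_or_ge v 90108 with h115 | h115
  · exact (data.checkRange_iff 89106 1002).mp Cfsg.Agent.Lib.Helper21.Co2S.ECo2U23.chk115 v (by omega) (by omega)
  rcases Nat.lt_or_ge v 91241 with h116 | h116
  · exact (data.checkRange_iff 90108 1133).mp Cfsg.Agent.Lib.Helper21.Co2S.ECo2U23.chk116 v (by omega) (by omega)
  rcases Nat.lt_or_ge v 92262 with h117 | h117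
  · exact (data.checkRange_iff 91241 1021).mp Cfsg.Agent.Lib.Helper21.Co2S.ECo2U23.chk117 v (by omega) (by omega)
  rcases Nat.lt_or_ge v 93339 with h118 | h118
  · exact (data.checkRange_iff 92262 1077).mp Cfsg.Agent.Lib.Helper21.Co2S.ECo2U23.chk118 v (by omega) (by omega)
  rcases Nat.lt_or_ge v 94498 with h119 | h119
  · exact (data.checkRange_iff 93339 1159).mp Cfsg.Agent.Lib.Helper21.Co2S.ECo2U23.chk119 v (by omega) (by omega)
  rcases Nat.lt_or_ge v 95604 with h120 | h120
  · exact (data.checkRange_iff 94498 1106).mp Cfsg.Agent.Lib.Helper21.Co2S.ECo2U24.chk120 v (by omega) (by omega)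
  rcases Nat.lt_or_ge v 96709 with h121 | h121
  · exact (data.checkRange_iff 95604 1105).mp Cfsg.Agent.Lib.Helper21.Co2S.ECo2U24.chk121 v (by omega) (by omega)
  rcases Nat.lt_or_ge v 97721 with h122 | h122
  · exact (data.checkRange_iff 96709 1012).mp Cfsg.Agent.Lib.Helper21.Co2S.ECo2U24.chk122 v (by omega) (by omega)
  rcases Nat.lt_or_ge v 98798 with h123 | h123
  · exact (data.checkRange_iff 97721 1077).mp Cfsg.Agent.Lib.Helper21.Co2S.ECo2U24.chk123 v (by omega) (by omega)
  rcases Nat.lt_or_ge v 99796 with h124 | h124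
  · exact (data.checkRange_iff 98798 998).mp Cfsg.Agent.Lib.Helper21.Co2S.ECo2U24.chk124 v (by omega) (by omega)
  rcases Nat.lt_or_ge v 100872 with h125 | h125
  · exact (data.checkRange_iff 99796 1076).mp Cfsg.Agent.Lib.Helper21.Co2S.ECo2U25.chk125 v (by omega) (by omega)
  rcases Nat.lt_or_ge v 101889 with h126 | h126
  · exact (data.checkRange_iff 100872 1017).mp Cfsg.Agent.Lib.Helper21.Co2S.ECo2U25.chk126 v (by omega) (by omega)
  rcases Nat.lt_or_ge v 103271 with h127 | h127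
  · exact (data.checkRange_iff 101889 1382).mp Cfsg.Agent.Lib.Helper21.Co2S.ECo2U25.chk127 v (by omega) (by omega)
  rcases Nat.lt_or_ge v 104677 with h128 | h128
  · exact (data.checkRange_iff 103271 1406).mp Cfsg.Agent.Lib.Helper21.Co2S.ECo2U25.chk128 v (by omega) (by omega)
  rcases Nat.lt_or_ge v 106047 with h129 | h129
  · exact (data.checkRange_iff 104677 1370).mp Cfsg.Agent.Lib.Helper21.Co2S.ECo2U25.chk129 v (by omega) (by omega)
  rcases Nat.lt_or_ge v 107533 with h130 | h130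
  · exact (data.checkRange_iff 106047 1486).mp Cfsg.Agent.Lib.Helper21.Co2S.ECo2U26.chk130 v (by omega) (by omega)
  rcases Nat.lt_or_ge v 109009 with h131 | h131
  · exact (data.checkRange_iff 107533 1476).mp Cfsg.Agent.Lib.Helper21.Co2S.ECo2U26.chk131 v (by omega) (by omega)
  rcases Nat.lt_or_ge v 110399 with h132 | h132
  · exact (data.checkRange_iff 109009 1390).mp Cfsg.Agent.Lib.Helper21.Co2S.ECo2U26.chk132 v (by omega) (by omega)
  rcases Nat.lt_or_ge v 111728 with h133 | h133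
  · exact (data.checkRange_iff 110399 1329).mp Cfsg.Agent.Lib.Helper21.Co2S.ECo2U26.chk133 v (by omega) (by omega)
  rcases Nat.lt_or_ge v 113169 with h134 | h134
  · exact (data.checkRange_iff 111728 1441).mp Cfsg.Agent.Lib.Helper21.Co2S.ECo2U26.chk134 v (by omega) (by omega)
  rcases Nat.lt_or_ge v 114707 with h135 | h135
  · exact (data.checkRange_iff 113169 1538).mp Cfsg.Agent.Lib.Helper21.Co2S.ECo2U27.chk135 v (by omega) (by omega)
  rcases Nat.lt_or_ge v 116320 with h136 | h136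
  · exact (data.checkRange_iff 114707 1613).mp Cfsg.Agent.Lib.Helper21.Co2S.ECo2U27.chk136 v (by omega) (by omega)
  rcases Nat.lt_or_ge v 117762 with h137 | h137
  · exact (data.checkRange_iff 116320 1442).mp Cfsg.Agent.Lib.Helper21.Co2S.ECo2U27.chk137 v (by omega) (by omega)
  rcases Nat.lt_or_ge v 119146 with h138 | h138
  · exact (data.checkRange_iff 117762 1384).mp Cfsg.Agent.Lib.Helper21.Co2S.ECo2U27.chk138 v (by omega) (by omega)
  rcases Nat.lt_or_ge v 120582 with h139 | h139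
  · exact (data.checkRange_iff 119146 1436).mp Cfsg.Agent.Lib.Helper21.Co2S.ECo2U27.chk139 v (by omega) (by omega)
  rcases Nat.lt_or_ge v 122063 with h140 | h140
  · exact (data.checkRange_iff 120582 1481).mp Cfsg.Agent.Lib.Helper21.Co2S.ECo2U28.chk140 v (by omega) (by omega)
  rcases Nat.lt_or_ge v 123624 with h141 | h141
  · exact (data.checkRange_iff 122063 1561).mp Cfsg.Agent.Lib.Helper21.Co2S.ECo2U28.chk141 v (by omega) (by omega)
  rcases Nat.lt_or_ge v 125047 with h142 | h142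
  · exact (data.checkRange_iff 123624 1423).mp Cfsg.Agent.Lib.Helper21.Co2S.ECo2U28.chk142 v (by omega) (by omega)
  rcases Nat.lt_or_ge v 126391 with h143 | h143
  · exact (data.checkRange_iff 125047 1344).mp Cfsg.Agent.Lib.Helper21.Co2S.ECo2U28.chk143 v (by omega) (by omega)
  rcases Nat.lt_or_ge v 127780 with h144 | h144
  · exact (data.checkRange_iff 126391 1389).mp Cfsg.Agent.Lib.Helper21.Co2S.ECo2U28.chk144 v (by omega) (by omega)
  rcases Nat.lt_or_ge v 129186 with h145 | h145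
  · exact (data.checkRange_iff 127780 1406).mp Cfsg.Agent.Lib.Helper21.Co2S.ECo2U29.chk145 v (by omega) (by omega)
  rcases Nat.lt_or_ge v 130641 with h146 | h146
  · exact (data.checkRange_iff 129186 1455).mp Cfsg.Agent.Lib.Helper21.Co2S.ECo2U29.chk146 v (by omega) (by omega)
  rcases Nat.lt_or_ge v 132026 with h147 | h147
  · exact (data.checkRange_iff 130641 1385).mp Cfsg.Agent.Lib.Helper21.Co2S.ECo2U29.chk147 v (by omega) (by omega)
  rcases Nat.lt_or_ge v 133377 with h148 | h148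
  · exact (data.checkRange_iff 132026 1351).mp Cfsg.Agent.Lib.Helper21.Co2S.ECo2U29.chk148 v (by omega) (by omega)
  rcases Nat.lt_or_ge v 134755 with h149 | h149
  · exact (data.checkRange_iff 133377 1378).mp Cfsg.Agent.Lib.Helper21.Co2S.ECo2U29.chk149 v (by omega) (by omega)
  rcases Nat.lt_or_ge v 136213 with h150 | h150
  · exact (data.checkRange_iff 134755 1458).mp Cfsg.Agent.Lib.Helper21.Co2S.ECo2U30.chk150 v (by omega) (by omega)
  rcases Nat.lt_or_ge v 137569 with h151 | h151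
  · exact (data.checkRange_iff 136213 1356).mp Cfsg.Agent.Lib.Helper21.Co2S.ECo2U30.chk151 v (by omega) (by omega)
  rcases Nat.lt_or_ge v 139089 with h152 | h152
  · exact (data.checkRange_iff 137569 1520).mp Cfsg.Agent.Lib.Helper21.Co2S.ECo2U30.chk152 v (by omega) (by omega)
  rcases Nat.lt_or_ge v 140599 with h153 | h153
  · exact (data.checkRange_iff 139089 1510).mp Cfsg.Agent.Lib.Helper21.Co2S.ECo2U30.chk153 v (by omega) (by omega)
  rcases Nat.lt_or_ge v 141965 with h154 | h154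
  · exact (data.checkRange_iff 140599 1366).mp Cfsg.Agent.Lib.Helper21.Co2S.ECo2U30.chk154 v (by omega) (by omega)
  rcases Nat.lt_or_ge v 143362 with h155 | h155
  · exact (data.checkRange_iff 141965 1397).mp Cfsg.Agent.Lib.Helper21.Co2S.ECo2U31.chk155 v (by omega) (by omega)
  rcases Nat.lt_or_ge v 144782 with h156 | h156
  · exact (data.checkRange_iff 143362 1420).mp Cfsg.Agent.Lib.Helper21.Co2S.ECo2U31.chk156 v (by omega) (by omega)
  rcases Nat.lt_or_ge v 146316 with h157 | h157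
  · exact (data.checkRange_iff 144782 1534).mp Cfsg.Agent.Lib.Helper21.Co2S.ECo2U31.chk157 v (by omega) (by omega)
  rcases Nat.lt_or_ge v 147706 with h158 | h158
  · exact (data.checkRange_iff 146316 1390).mp Cfsg.Agent.Lib.Helper21.Co2S.ECo2U31.chk158 v (by omega) (by omega)
  rcases Nat.lt_or_ge v 149031 with h159 | h159
  · exact (data.checkRange_iff 147706 1325).mp Cfsg.Agent.Lib.Helper21.Co2S.ECo2U31.chk159 v (by omega) (by omega)
  rcases Nat.lt_or_ge v 150394 with h160 | h160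
  · exact (data.checkRange_iff 149031 1363).mp Cfsg.Agent.Lib.Helper21.Co2S.ECo2U32.chk160 v (by omega) (by omega)
  rcases Nat.lt_or_ge v 151811 with h161 | h161
  · exact (data.checkRange_iff 150394 1417).mp Cfsg.Agent.Lib.Helper21.Co2S.ECo2U32.chk161 v (by omega) (by omega)
  rcases Nat.lt_or_ge v 153262 with h162 | h162
  · exact (data.checkRange_iff 151811 1451).mp Cfsg.Agent.Lib.Helper21.Co2S.ECo2U32.chk162 v (by omega) (by omega)
  rcases Nat.lt_or_ge v 154674 with h163 | h163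
  · exact (data.checkRange_iff 153262 1412).mp Cfsg.Agent.Lib.Helper21.Co2S.ECo2U32.chk163 v (by omega) (by omega)
  rcases Nat.lt_or_ge v 156199 with h164 | h164
  · exact (data.checkRange_iff 154674 1525).mp Cfsg.Agent.Lib.Helper21.Co2S.ECo2U32.chk164 v (by omega) (by omega)
  rcases Nat.lt_or_ge v 157737 with h165 | h165
  · exact (data.checkRange_iff 156199 1538).mp Cfsg.Agent.Lib.Helper21.Co2S.ECo2U33.chk165 v (by omega) (by omega)
  rcases Nat.lt_or_ge v 159091 with h166 | h166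
  · exact (data.checkRange_iff 157737 1354).mp Cfsg.Agent.Lib.Helper21.Co2S.ECo2U33.chk166 v (by omega) (by omega)
  rcases Nat.lt_or_ge v 160538 with h167 | h167
  · exact (data.checkRange_iff 159091 1447).mp Cfsg.Agent.Lib.Helper21.Co2S.ECo2U33.chk167 v (by omega) (by omega)
  rcases Nat.lt_or_ge v 161911 with h168 | h168
  · exact (data.checkRange_iff 160538 1373).mp Cfsg.Agent.Lib.Helper21.Co2S.ECo2U33.chk168 v (by omega) (by omega)
  rcases Nat.lt_or_ge v 163215 with h169 | h169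
  · exact (data.checkRange_iff 161911 1304).mp Cfsg.Agent.Lib.Helper21.Co2S.ECo2U33.chk169 v (by omega) (by omega)
  rcases Nat.lt_or_ge v 164654 with h170 | h170
  · exact (data.checkRange_iff 163215 1439).mp Cfsg.Agent.Lib.Helper21.Co2S.ECo2U34.chk170 v (by omega) (by omega)
  rcases Nat.lt_or_ge v 166062 with h171 | h171
  · exact (data.checkRange_iff 164654 1408).mp Cfsg.Agent.Lib.Helper21.Co2S.ECo2U34.chk171 v (by omega) (by omega)
  rcases Nat.lt_or_ge v 167433 with h172 | h172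
  · exact (data.checkRange_iff 166062 1371).mp Cfsg.Agent.Lib.Helper21.Co2S.ECo2U34.chk172 v (by omega) (by omega)
  rcases Nat.lt_or_ge v 168934 with h173 | h173
  · exact (data.checkRange_iff 167433 1501).mp Cfsg.Agent.Lib.Helper21.Co2S.ECo2U34.chk173 v (by omega) (by omega)
  rcases Nat.lt_or_ge v 170430 with h174 | h174
  · exact (data.checkRange_iff 168934 1496).mp Cfsg.Agent.Lib.Helper21.Co2S.ECo2U34.chk174 v (by omega) (by omega)
  rcases Nat.lt_or_ge v 171854 with h175 | h175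
  · exact (data.checkRange_iff 170430 1424).mp Cfsg.Agent.Lib.Helper21.Co2S.ECo2U35.chk175 v (by omega) (by omega)
  rcases Nat.lt_or_ge v 173355 with h176 | h176
  · exact (data.checkRange_iff 171854 1501).mp Cfsg.Agent.Lib.Helper21.Co2S.ECo2U35.chk176 v (by omega) (by omega)
  rcases Nat.lt_or_ge v 174871 with h177 | h177
  · exact (data.checkRange_iff 173355 1516).mp Cfsg.Agent.Lib.Helper21.Co2S.ECo2U35.chk177 v (by omega) (by omega)
  rcases Nat.lt_or_ge v 176318 with h178 | h178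
  · exact (data.checkRange_iff 174871 1447).mp Cfsg.Agent.Lib.Helper21.Co2S.ECo2U35.chk178 v (by omega) (by omega)
  rcases Nat.lt_or_ge v 177806 with h179 | h179
  · exact (data.checkRange_iff 176318 1488).mp Cfsg.Agent.Lib.Helper21.Co2S.ECo2U35.chk179 v (by omega) (by omega)
  exact (data.checkRange_iff 177806 1141).mp Cfsg.Agent.Lib.Helper21.Co2S.ECo2U36.chk180 v (by omega) (by omega)

theorem hrows : ∀ v, v < data.N → Data.rowOK data v = true := by
  intro v hv
  have hv' : v < 178947 := hv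
  rcases Nat.lt_or_ge v 6000 with h0 | h0
  · exact (Data.finalRange_iff data 0 6000).mp Cfsg.Agent.Lib.Helper21.Co2S.ECo2M0.fin0 v (by omega) (by omega)
  rcases Nat.lt_or_ge v 12000 with h1 | h1
  · exact (Data.finalRange_iff data 6000 6000).mp Cfsg.Agent.Lib.Helper21.Co2S.ECo2M0.fin1 v (by omega) (by omega)
  rcases Nat.lt_or_ge v 18000 with h2 | h2
  · exact (Data.finalRange_iff data 12000 6000).mp Cfsg.Agent.Lib.Helper21.Co2S.ECo2M0.fin2 v (by omega) (by omega)
  rcases Nat.lt_or_ge v 24000 with h3 | h3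
  · exact (Data.finalRange_iff data 18000 6000).mp Cfsg.Agent.Lib.Helper21.Co2S.ECo2M0.fin3 v (by omega) (by omega)
  rcases Nat.lt_or_ge v 30000 with h4 | h4
  · exact (Data.finalRange_iff data 24000 6000).mp Cfsg.Agent.Lib.Helper21.Co2S.ECo2M1.fin4 v (by omega) (by omega)
  rcases Nat.lt_or_ge v 36000 with h5 | h5
  · exact (Data.finalRange_iff data 30000 6000).mp Cfsg.Agent.Lib.Helper21.Co2S.ECo2M1.fin5 v (by omega) (by omega)
  rcases Nat.lt_or_ge v 42000 with h6 | h6
  · exact (Data.finalRange_iff data 36000 6000).mp Cfsg.Agent.Lib.Helper21.Co2S.ECo2M1.fin6 v (by omega) (by omega)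
  rcases Nat.lt_or_ge v 48000 with h7 | h7
  · exact (Data.finalRange_iff data 42000 6000).mp Cfsg.Agent.Lib.Helper21.Co2S.ECo2M1.fin7 v (by omega) (by omega)
  rcases Nat.lt_or_ge v 54000 with h8 | h8
  · exact (Data.finalRange_iff data 48000 6000).mp Cfsg.Agent.Lib.Helper21.Co2S.ECo2M1.fin8 v (by omega) (by omega)
  rcases Nat.lt_or_ge v 60000 with h9 | h9
  · exact (Data.finalRange_iff data 54000 6000).mp Cfsg.Agent.Lib.Helper21.Co2S.ECo2M2.fin9 v (by omega) (by omega)
  rcases Nat.lt_or_ge v 66000 with h10 | h10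
  · exact (Data.finalRange_iff data 60000 6000).mp Cfsg.Agent.Lib.Helper21.Co2S.ECo2M2.fin10 v (by omega) (by omega)
  rcases Nat.lt_or_ge v 72000 with h11 | h11
  · exact (Data.finalRange_iff data 66000 6000).mp Cfsg.Agent.Lib.Helper21.Co2S.ECo2M2.fin11 v (by omega) (by omega)
  rcases Nat.lt_or_ge v 78000 with h12 | h12
  · exact (Data.finalRange_iff data 72000 6000).mp Cfsg.Agent.Lib.Helper21.Co2S.ECo2M2.fin12 v (by omega) (by omega)
  rcases Nat.lt_or_ge v 84000 with h13 | h13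
  · exact (Data.finalRange_iff data 78000 6000).mp Cfsg.Agent.Lib.Helper21.Co2S.ECo2M2.fin13 v (by omega) (by omega)
  rcases Nat.lt_or_ge v 90000 with h14 | h14
  · exact (Data.finalRange_iff data 84000 6000).mp Cfsg.Agent.Lib.Helper21.Co2S.ECo2M3.fin14 v (by omega) (by omega)
  rcases Nat.lt_or_ge v 96000 with h15 | h15
  · exact (Data.finalRange_iff data 90000 6000).mp Cfsg.Agent.Lib.Helper21.Co2S.ECo2M3.fin15 v (by omega) (by omega)
  rcases Nat.lt_or_ge v 102000 with h16 | h16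
  · exact (Data.finalRange_iff data 96000 6000).mp Cfsg.Agent.Lib.Helper21.Co2S.ECo2M3.fin16 v (by omega) (by omega)
  rcases Nat.lt_or_ge v 108000 with h17 | h17
  · exact (Data.finalRange_iff data 102000 6000).mp Cfsg.Agent.Lib.Helper21.Co2S.ECo2M3.fin17 v (by omega) (by omega)
  rcases Nat.lt_or_ge v 114000 with h18 | h18
  · exact (Data.finalRange_iff data 108000 6000).mp Cfsg.Agent.Lib.Helper21.Co2S.ECo2M3.fin18 v (by omega) (by omega)
  rcases Nat.lt_or_ge v 120000 with h19 | h19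
  · exact (Data.finalRange_iff data 114000 6000).mp Cfsg.Agent.Lib.Helper21.Co2S.ECo2M4.fin19 v (by omega) (by omega)
  rcases Nat.lt_or_ge v 126000 with h20 | h20
  · exact (Data.finalRange_iff data 120000 6000).mp Cfsg.Agent.Lib.Helper21.Co2S.ECo2M4.fin20 v (by omega) (by omega)
  rcases Nat.lt_or_ge v 132000 with h21 | h21
  · exact (Data.finalRange_iff data 126000 6000).mp Cfsg.Agent.Lib.Helper21.Co2S.ECo2M4.fin21 v (by omega) (by omega)
  rcases Nat.lt_or_ge v 138000 with h22 | h22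
  · exact (Data.finalRange_iff data 132000 6000).mp Cfsg.Agent.Lib.Helper21.Co2S.ECo2M4.fin22 v (by omega) (by omega)
  rcases Nat.lt_or_ge v 144000 with h23 | h23
  · exact (Data.finalRange_iff data 138000 6000).mp Cfsg.Agent.Lib.Helper21.Co2S.ECo2M4.fin23 v (by omega) (by omega)
  rcases Nat.lt_or_ge v 150000 with h24 | h24
  · exact (Data.finalRange_iff data 144000 6000).mp Cfsg.Agent.Lib.Helper21.Co2S.ECo2M5.fin24 v (by omega) (by omega)
  rcases Nat.lt_or_ge v 156000 with h25 | h25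
  · exact (Data.finalRange_iff data 150000 6000).mp Cfsg.Agent.Lib.Helper21.Co2S.ECo2M5.fin25 v (by omega) (by omega)
  rcases Nat.lt_or_ge v 162000 with h26 | h26
  · exact (Data.finalRange_iff data 156000 6000).mp Cfsg.Agent.Lib.Helper21.Co2S.ECo2M5.fin26 v (by omega) (by omega)
  rcases Nat.lt_or_ge v 168000 with h27 | h27
  · exact (Data.finalRange_iff data 162000 6000).mp Cfsg.Agent.Lib.Helper21.Co2S.ECo2M5.fin27 v (by omega) (by omega)
  rcases Nat.lt_or_ge v 174000 with h28 | h28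
  · exact (Data.finalRange_iff data 168000 6000).mp Cfsg.Agent.Lib.Helper21.Co2S.ECo2M5.fin28 v (by omega) (by omega)
  exact (Data.finalRange_iff data 174000 4947).mp Cfsg.Agent.Lib.Helper21.Co2S.ECo2M6.fin29 v (by omega) (by omega)

theorem hfin : data.finalOK = true := Data.finalOK_of_rows data Cfsg.Agent.Lib.Helper21.Co2S.ECo2M0.hlive0 (by decide) hrows

theorem pc0 : Data.countFrom data 0 6000 = 1466 := Cfsg.Agent.Lib.Helper21.Co2S.ECo2M6.cnt0
theorem pc1 : Data.countFrom data 0 12000 = 2456 := Data.countFrom_step data pc0 Cfsg.Agent.Lib.Helper21.Co2S.ECo2M6.cnt1 (by norm_num) (by norm_num)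
theorem pc2 : Data.countFrom data 0 18000 = 2959 := Data.countFrom_step data pc1 Cfsg.Agent.Lib.Helper21.Co2S.ECo2M6.cnt2 (by norm_num) (by norm_num)
theorem pc3 : Data.countFrom data 0 24000 = 3335 := Data.countFrom_step data pc2 Cfsg.Agent.Lib.Helper21.Co2S.ECo2M6.cnt3 (by norm_num) (by norm_num)
theorem pc4 : Data.countFrom data 0 30000 = 3610 := Data.countFrom_step data pc3 Cfsg.Agent.Lib.Helper21.Co2S.ECo2M7.cnt4 (by norm_num) (by norm_num)
theorem pc5 : Data.countFrom data 0 36000 = 3925 := Data.countFrom_step data pc4 Cfsg.Agent.Lib.Helper21.Co2S.ECo2M7.cnt5 (by norm_num) (by norm_num)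
theorem pc6 : Data.countFrom data 0 42000 = 4200 := Data.countFrom_step data pc5 Cfsg.Agent.Lib.Helper21.Co2S.ECo2M7.cnt6 (by norm_num) (by norm_num)
theorem pc7 : Data.countFrom data 0 48000 = 4321 := Data.countFrom_step data pc6 Cfsg.Agent.Lib.Helper21.Co2S.ECo2M7.cnt7 (by norm_num) (by norm_num)
theorem pc8 : Data.countFrom data 0 54000 = 4407 := Data.countFrom_step data pc7 Cfsg.Agent.Lib.Helper21.Co2S.ECo2M7.cnt8 (by norm_num) (by norm_num)
theorem pc9 : Data.countFrom data 0 60000 = 4464 := Data.countFrom_step data pc8 Cfsg.Agent.Lib.Helper21.Co2S.ECo2M8.cnt9 (by norm_num) (by norm_num)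
theorem pc10 : Data.countFrom data 0 66000 = 4467 := Data.countFrom_step data pc9 Cfsg.Agent.Lib.Helper21.Co2S.ECo2M8.cnt10 (by norm_num) (by norm_num)
theorem pc11 : Data.countFrom data 0 72000 = 4485 := Data.countFrom_step data pc10 Cfsg.Agent.Lib.Helper21.Co2S.ECo2M8.cnt11 (by norm_num) (by norm_num)
theorem pc12 : Data.countFrom data 0 78000 = 4516 := Data.countFrom_step data pc11 Cfsg.Agent.Lib.Helper21.Co2S.ECo2M8.cnt12 (by norm_num) (by norm_num)
theorem pc13 : Data.countFrom data 0 84000 = 4545 := Data.countFrom_step data pc12 Cfsg.Agent.Lib.Helper21.Co2S.ECo2M8.cnt13 (by norm_num) (by norm_num)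
theorem pc14 : Data.countFrom data 0 90000 = 4561 := Data.countFrom_step data pc13 Cfsg.Agent.Lib.Helper21.Co2S.ECo2M9.cnt14 (by norm_num) (by norm_num)
theorem pc15 : Data.countFrom data 0 96000 = 4566 := Data.countFrom_step data pc14 Cfsg.Agent.Lib.Helper21.Co2S.ECo2M9.cnt15 (by norm_num) (by norm_num)
theorem pc16 : Data.countFrom data 0 102000 = 4576 := Data.countFrom_step data pc15 Cfsg.Agent.Lib.Helper21.Co2S.ECo2M9.cnt16 (by norm_num) (by norm_num)
theorem pc17 : Data.countFrom data 0 108000 = 4589 := Data.countFrom_step data pc16 Cfsg.Agent.Lib.Helper21.Co2S.ECo2M9.cnt17 (by norm_num) (by norm_num)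
theorem pc18 : Data.countFrom data 0 114000 = 4594 := Data.countFrom_step data pc17 Cfsg.Agent.Lib.Helper21.Co2S.ECo2M9.cnt18 (by norm_num) (by norm_num)
theorem pc19 : Data.countFrom data 0 120000 = 4596 := Data.countFrom_step data pc18 Cfsg.Agent.Lib.Helper21.Co2S.ECo2M10.cnt19 (by norm_num) (by norm_num)
theorem pc20 : Data.countFrom data 0 126000 = 4596 := Data.countFrom_step data pc19 Cfsg.Agent.Lib.Helper21.Co2S.ECo2M10.cnt20 (by norm_num) (by norm_num)
theorem pc21 : Data.countFrom data 0 132000 = 4600 := Data.countFrom_step data pc20 Cfsg.Agent.Lib.Helper21.Co2S.ECo2M10.cnt21 (by norm_num) (by norm_num)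
theorem pc22 : Data.countFrom data 0 138000 = 4600 := Data.countFrom_step data pc21 Cfsg.Agent.Lib.Helper21.Co2S.ECo2M10.cnt22 (by norm_num) (by norm_num)
theorem pc23 : Data.countFrom data 0 144000 = 4600 := Data.countFrom_step data pc22 Cfsg.Agent.Lib.Helper21.Co2S.ECo2M10.cnt23 (by norm_num) (by norm_num)
theorem pc24 : Data.countFrom data 0 150000 = 4600 := Data.countFrom_step data pc23 Cfsg.Agent.Lib.Helper21.Co2S.ECo2M11.cnt24 (by norm_num) (by norm_num)
theorem pc25 : Data.countFrom data 0 156000 = 4600 := Data.countFrom_step data pc24 Cfsg.Agent.Lib.Helper21.Co2S.ECo2M11.cnt25 (by norm_num) (by norm_num)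
theorem pc26 : Data.countFrom data 0 162000 = 4600 := Data.countFrom_step data pc25 Cfsg.Agent.Lib.Helper21.Co2S.ECo2M11.cnt26 (by norm_num) (by norm_num)
theorem pc27 : Data.countFrom data 0 168000 = 4600 := Data.countFrom_step data pc26 Cfsg.Agent.Lib.Helper21.Co2S.ECo2M11.cnt27 (by norm_num) (by norm_num)
theorem pc28 : Data.countFrom data 0 174000 = 4600 := Data.countFrom_step data pc27 Cfsg.Agent.Lib.Helper21.Co2S.ECo2M11.cnt28 (by norm_num) (by norm_num)
theorem pc29 : Data.countFrom data 0 178947 = 4600 := Data.countFrom_step data pc28 Cfsg.Agent.Lib.Helper21.Co2S.ECo2M12.cnt29 (by norm_num) (by norm_num)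

theorem hcount : data.countLive = 4600 := by
  rw [Data.countLive_eq]
  exact pc29

/-- the number of cosets is at most `4600` -/
theorem mainU : Finite (PresentedGroup rels ⧸ (Subgroup.closure S).map (PresentedGroup.mk rels)) ∧
    Nat.card (PresentedGroup rels ⧸ (Subgroup.closure S).map (PresentedGroup.mk rels)) ≤ 4600 := by
  have h := upper link hchk hfin
  rw [hcount] at h
  exact h

end Cfsg.Agent.Lib.Helper21.Co2S.ECo2MainU
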