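import Cfsg.Agent.Lib.Helper3.Cover.U62Main

set_option autoImplicit false
set_option maxRecDepth 100000

/-!
# Identifying elements of the kernel of the covering presentation of `PSU₆(2)`

The kernel of helper3's covering presentation `EU6` of `PSU₆(2)` consists of the 12 elements `wordN n`; they are
separated by the images of the first points of three permutation representations.  So a word that is trivial in
`PSU₆(2)` (checked with matrices) is identified in `EU6` by these three images.  We identify: two products of
relators with exponent sums zero and their images under the substitution of the outer involution `x` of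
`PSU₆(2):2 ≤ Co₂`, the commutator of two commuting elements of order 4 and the squares and the cube of the
generators of the kernel.
-/

namespace Cfsg.Agent.Lib.Helper21.Co2S

open Cfsg Cfsg.Agent.Lib.Helper3 Cfsg.Agent.Lib.Helper3.Cover Cfsg.Agent.Lib.Helper3.Cover.U62Iso
open Cfsg.Agent.Lib.Helper3.Cover.U62Bar Cfsg.Agent.Lib.Helper3.Cover.U62Main
open Cfsg.Agent.Lib.Helper28.TC2Upper Cfsg.Agent.Lib.Helper28.TC2Lower Cfsg.Agent.Lib.Helper28.TC2Glue
open Cfsg.Agent.Lib.Helper28.TC2Tower Cfsg.Agent.Lib.Helper28.TC2Subst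
open scoped commutatorElement

/-- the images of the first points of the three representations under a word -/
noncomputable def keyW (L : List (EU6Def.Gen × Bool)) : ℕ × ℕ × ℕ :=
  (LU6ATable.table.walkT (pathOf PU6Link.lw L) 0, LU6BTable.table.walkT (pathOf PU6Link.lw L) 0,
    LU6CTable.table.walkT (pathOf PU6Link.lw L) 0)

theorem keyW_wordN (n : ℕ) : keyW (wordN n) = keyN n := rfl

theorem keyW_eq_of_emk_eq {L M : List (EU6Def.Gen × Bool)} (h : emk L = emk M) : keyW L = keyW M := by
  obtain ⟨φA, hφA⟩ := lower_hom EU6Def.relWords PU6Link.lw LU6ATable.table LU6ALow.hT lwkA lwinvA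
    (fun L hL => LU6ALow.hchkT _ (hmemA L hL))
  obtain ⟨φB, hφB⟩ := lower_hom EU6Def.relWords PU6Link.lw LU6BTable.table LU6BLow.hT lwkB lwinvB
    (fun L hL => LU6BLow.hchkT _ (hmemB L hL))
  obtain ⟨φC, hφC⟩ := lower_hom EU6Def.relWords PU6Link.lw LU6CTable.table LU6CLow.hT lwkC lwinvC
    (fun L hL => LU6CLow.hchkT _ (hmemC L hL))
  have eA := congrArg (fun g => (φA g (⟨0, by decide⟩ : Fin LU6ATable.table.n)).val) h
  have eB := congrArg (fun g => (φB g (⟨0, by decide⟩ : Fin LU6BTable.table.n)).val) h
  have eC := congrArg (fun g => (φC g (⟨0, by decide⟩ : Fin LU6CTable.table.n)).val) h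
  simp only [hφA] at eA
  simp only [hφB] at eB
  simp only [hφC] at eC
  unfold keyW
  rw [eA, eB, eC]

theorem wordN_mem_ker (n : ℕ) : emk (wordN n) ∈ DU6.proj.ker := by
  rw [emk_wordN]
  exact mul_mem (mul_mem (pow_mem za_mem_ker _) (pow_mem zb_mem_ker _)) (pow_mem zc_mem_ker _)

/-- an element of the kernel is identified by its key -/
theorem emk_eq_wordN (L : List (EU6Def.Gen × Bool)) (hL : emk L ∈ DU6.proj.ker) (n : ℕ) (hn : n < 12)
    (hkey : keyW L = keyN n) : emk L = emk (wordN n) := by
  haveI := cardEU6.1
  let f : Fin 12 → DU6.proj.ker := fun i => ⟨emk (wordN i), wordN_mem_ker i⟩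
  have hinj : Function.Injective f := by
    intro i j h
    have h1 : emk (wordN i) = emk (wordN j) := congrArg Subtype.val h
    have h2 := keyW_eq_of_emk_eq h1
    rw [keyW_wordN, keyW_wordN] at h2
    exact Fin.ext (keyN_inj i.2 j.2 h2)
  have hcard : Nat.card DU6.proj.ker ≤ Nat.card (Fin 12) := by
    rw [Nat.card_fin]
    exact card_ker_le
  have hsurj : Function.Surjective f := (hinj.bijective_of_nat_card_le hcard).2
  obtain ⟨i, hi⟩ := hsurj ⟨emk L, hL⟩
  have h1 : emk (wordN i) = emk L := congrArg Subtype.val hi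
  have h2 := keyW_eq_of_emk_eq h1
  rw [keyW_wordN, hkey] at h2
  have h3 : (i : ℕ) = n := keyN_inj i.2 hn h2
  rw [← h1, h3]

/-- a word that is trivial in `PSU₆(2)` is identified by its key -/
theorem emk_eq_of_key (L : List (EU6Def.Gen × Bool)) (n : ℕ) (hn : n < 12)
    (hchk : scalChk (wc L) = true) (hkey : keyW L = keyN n) : emk L = emk (wordN n) := by
  apply emk_eq_wordN L _ n hn hkey
  rw [MonoidHom.mem_ker, DU6.proj_mk]
  exact mk_eq_one_of_scalChk L hchk

theorem keyN_0 : keyN 0 = (0, 0, 0) := by decide +kernel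
theorem keyN_2 : keyN 2 = (4793, 33, 0) := by decide +kernel
theorem keyN_3 : keyN 3 = (4793, 0, 0) := by decide +kernel
theorem keyN_4 : keyN 4 = (0, 0, 111) := by decide +kernel
theorem keyN_8 : keyN 8 = (0, 0, 99) := by decide +kernel

theorem emk_wordN_0 : emk (wordN 0) = 1 := by
  rw [emk_wordN]
  simp

theorem emk_wordN_2 : emk (wordN 2) = emk zb := by
  rw [emk_wordN]
  simp

theorem emk_wordN_3 : emk (wordN 3) = emk zb * emk zc := by
  rw [emk_wordN]
  simp

theorem emk_wordN_4 : emk (wordN 4) = emk za := by
  rw [emk_wordN]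
  simp

theorem emk_wordN_8 : emk (wordN 8) = emk za ^ 2 := by
  rw [emk_wordN]
  simp

/-! ### the orders of the generators of the kernel -/

theorem za_pow : emk za ^ 3 = 1 := by
  have h : emk ((List.replicate 3 za).flatten) = emk (wordN 0) :=
    emk_eq_of_key _ 0 (by norm_num) (by decide +kernel) (by rw [keyN_0]; decide +kernel)
  rw [emk_wordN_0] at h
  rw [← h]
  unfold emk
  rw [mk_flatten_replicate, map_pow]

theorem zb_pow : emk zb ^ 2 = 1 := by
  have h : emk ((List.replicate 2 zb).flatten) = emk (wordN 0) :=
    emk_eq_of_key _ 0 (by norm_num) (by decide +kernel) (by rw [keyN_0]; decide +kernel)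
  rw [emk_wordN_0] at h
  rw [← h]
  unfold emk
  rw [mk_flatten_replicate, map_pow]

/-! ### the substitution of the outer involution -/

/-- the images of the generators under conjugation with the outer involution `x` -/
def sub6 : EU6Def.Gen → List (EU6Def.Gen × Bool)
  | .a => [(.a, false)]
  | .b => [(.b, true)]
  | .c => [(.a, false), (.c, false), (.a, false)]
  | .t => [(.t, false), (.c, false), (.a, false), (.c, false), (.a, false)]
  | .d => [(.a, false), (.c, false), (.d, false), (.c, false), (.a, false)]

/-- a product of relators with exponent sums zero whose value is the element of order 3 of the kernel -/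
def itemsA : List (List (EU6Def.Gen × Bool) × ℤ) :=
  [(EU6Def.R.getD 9 [], 1), (EU6Def.R.getD 4 [], -6), (EU6Def.R.getD 3 [], -2), (EU6Def.R.getD 2 [], 12), (EU6Def.R.getD 1 [], -18), (EU6Def.R.getD 5 [], 4), (EU6Def.R.getD 7 [], -4)]

/-- a product of relators with exponent sums zero whose value is the first involution of the kernel -/
def itemsB : List (List (EU6Def.Gen × Bool) × ℤ) :=
  [(EU6Def.R.getD 20 [], 1), (EU6Def.R.getD 4 [], -3), (EU6Def.R.getD 2 [], 6), (EU6Def.R.getD 1 [], -9), (EU6Def.R.getD 5 [], -9), (EU6Def.R.getD 7 [], -3), (EU6Def.R.getD 14 [], -2), (EU6Def.R.getD 0 [], -8), (EU6Def.R.getD 18 [], 4), (EU6Def.R.getD 10 [], 6), (EU6Def.R.getD 17 [], -6)]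

def WA : List (EU6Def.Gen × Bool) := combWord itemsA
def WB : List (EU6Def.Gen × Bool) := combWord itemsB

theorem emk_WA : emk WA = emk za := by
  rw [← emk_wordN_4]
  exact emk_eq_of_key _ 4 (by norm_num) (by decide +kernel) (by rw [keyN_4]; decide +kernel)

theorem emk_WA' : emk (substW sub6 WA) = emk za ^ 2 := by
  rw [← emk_wordN_8]
  exact emk_eq_of_key _ 8 (by norm_num) (by decide +kernel) (by rw [keyN_8]; decide +kernel)

theorem emk_WB : emk WB = emk zb := by
  rw [← emk_wordN_2]
  exact emk_eq_of_key _ 2 (by norm_num) (by decide +kernel) (by rw [keyN_2]; decide +kernel)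

theorem emk_WB' : emk (substW sub6 WB) = emk zb * emk zc := by
  rw [← emk_wordN_3]
  exact emk_eq_of_key _ 3 (by norm_num) (by decide +kernel) (by rw [keyN_3]; decide +kernel)

/-! ### the commutator of two commuting elements of order 4 -/

/-- an element of order 4 of `PSU₆(2)` fixing the vector `(-5, -1^23)` -/
def g1 : List (EU6Def.Gen × Bool) := [(.d, true), (.b, false), (.t, true), (.b, false), (.a, true), (.d, true), (.a, true), (.b, true), (.d, true), (.a, true), (.b, true), (.d, true), (.b, false), (.t, true)]

/-- an element of order 4 commuting with it in `PSU₆(2)` and fixing the same vector -/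
def g2 : List (EU6Def.Gen × Bool) := [(.d, true), (.a, true), (.d, true), (.b, true), (.d, true), (.c, true), (.b, false), (.t, true), (.a, true), (.b, true), (.c, true), (.d, true), (.t, true), (.c, true), (.d, true)]

/-- the commutator word -/
def cw : List (EU6Def.Gen × Bool) := g1 ++ (g2 ++ (FreeGroup.invRev g1 ++ FreeGroup.invRev g2))

theorem emk_cw : emk cw = emk zb * emk zc := by
  rw [← emk_wordN_3]
  exact emk_eq_of_key _ 3 (by norm_num) (by decide +kernel) (by rw [keyN_3]; decide +kernel)

theorem emk_cw_comm : emk cw = ⁅emk g1, emk g2⁆ := by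
  unfold cw
  rw [emk_append, emk_append, emk_append, emk_invRev, emk_invRev, commutatorElement_def]
  group

end Cfsg.Agent.Lib.Helper21.Co2S
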