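import Cfsg.Agent.Lib.Helper21.Co2.OBasic
import Cfsg.Agent.Lib.Helper4.McL.Gens

set_option autoImplicit false

/-!
# Elements of the Conway group `Co₂` fixing the vector `(-5, -1^23)`

Twice the vector `(-5, -1^23)` is an integral combination of 18 of the 4600 points; an element of `Co₂` whose
permutation of the 4600 points maps this combination to a combination with the same sum fixes the vector, hence
lies in the McLaughlin group of the definitions.
-/

namespace Cfsg.Agent.Lib.Helper21.Co2S

open Cfsg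
open Cfsg.Agent.Lib.Helper10.SX
open Cfsg.Agent.Lib.Helper21.Co2
open Cfsg.Agent.Lib.Helper4.McL (vecOf lV leechV_eq)

/-- the coefficients and the indices of the points of the combination -/
def vComb : List (ℤ × ℕ) := [(-3, 773), (-1, 3530), (1, 1272), (1, 2067), (1, 1728), (-1, 1154), (1, 4572), (-1, 1826), (1, 1884), (-1, 3952), (1, 2939), (-3, 1042), (3, 3345), (3, 2809), (-1, 3501), (2, 916), (-1, 2050), (1, 434)]

/-- the coordinate `i` of the combination of the images of the points under the map `f` -/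
def combL (f : ℕ → ℕ) (i : ℕ) : ℤ := (vComb.map fun c => c.1 * (P4600 (f c.2)).getD i 0).sum

/-- the Boolean check that the combination of the images is twice the vector -/
def combOK (f : ℕ → ℕ) : Bool := (List.range 24).all fun i => decide (combL f i = 2 * lV.getD i 0)

theorem vComb_lt : ∀ c ∈ vComb, c.2 < 4600 := by decide

theorem coe_list_sum (l : List ↥leechLattice) (p : GolayPt) :
    ((l.sum : ↥leechLattice) : GolayPt → ℤ) p = (l.map fun x : ↥leechLattice => x.1 p).sum := by
  induction l with
  | nil => rfl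
  | cons x l ih =>
    rw [List.sum_cons, List.map_cons, List.sum_cons, ← ih]
    rfl

theorem idx_lt (p : GolayPt) : Cfsg.Agent.Lib.Helper3.Golay.idx p < 24 := by
  revert p
  decide

/-- the combination of the points with indices `f c.2` has the coordinates `combL f` -/
theorem comb_coord (pt : ℕ → ↥leechLattice) (f : ℕ → ℕ)
    (hpt : ∀ c ∈ vComb, ((pt c.2 : ↥leechLattice) : GolayPt → ℤ) = vecOf (P4600 (f c.2))) (p : GolayPt) :
    (((vComb.map fun c => c.1 • pt c.2).sum : ↥leechLattice) : GolayPt → ℤ) p =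
      combL f (Cfsg.Agent.Lib.Helper3.Golay.idx p) := by
  rw [coe_list_sum, List.map_map]
  unfold combL
  congr 1
  apply List.map_congr_left
  intro c hc
  show ((c.1 • pt c.2 : ↥leechLattice) : GolayPt → ℤ) p = _
  rw [AddSubgroup.coe_zsmul, Pi.smul_apply, hpt c hc, smul_eq_mul]
  rfl

theorem eq_of_combOK (pt : ℕ → ↥leechLattice) (f : ℕ → ℕ)
    (hpt : ∀ c ∈ vComb, ((pt c.2 : ↥leechLattice) : GolayPt → ℤ) = vecOf (P4600 (f c.2)))
    (h : combOK f = true) : (vComb.map fun c => c.1 • pt c.2).sum = (2 : ℤ) • Spor.leechV := by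
  apply Subtype.ext
  funext p
  rw [comb_coord pt f hpt p, AddSubgroup.coe_zsmul, Pi.smul_apply, leechV_eq, smul_eq_mul]
  unfold combOK at h
  rw [List.all_eq_true] at h
  have := h _ (List.mem_range.mpr (idx_lt p))
  exact of_decide_eq_true this

theorem combOK_id : combOK id = true := by decide +kernel

/-- an element of `Co₂` whose permutation of the points maps the combination to a combination with the same sum
fixes the vector `(-5, -1^23)` -/
theorem fix_leechV (g : ↥Spor.Co2) (f : ℕ → ℕ) (hf : ∀ c ∈ vComb, (psi g (fpt c.2)).val = f c.2)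
    (h : combOK f = true) : (g : Equiv.Perm ↥leechLattice) Spor.leechV = Spor.leechV := by
  obtain ⟨hco, -⟩ := (mem_Co2_iff g.1).mp g.2
  let G : ↥leechLattice →+ ↥leechLattice := AddMonoidHom.mk' (g : Equiv.Perm ↥leechLattice) hco.1
  have hG : ∀ x, G x = (g : Equiv.Perm ↥leechLattice) x := fun _ => rfl
  let pt0 : ℕ → ↥leechLattice := fun b => ((eXS (fpt b) : ↥XS) : ↥leechLattice)
  let pt1 : ℕ → ↥leechLattice := fun b => ((eXS (psi g (fpt b)) : ↥XS) : ↥leechLattice)
  have h0 : (vComb.map fun c => c.1 • pt0 c.2).sum = (2 : ℤ) • Spor.leechV := by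
    apply eq_of_combOK pt0 id _ combOK_id
    intro c hc
    show (((eXS (fpt c.2) : ↥XS) : ↥leechLattice) : GolayPt → ℤ) = _
    rw [eXS_val, fpt_val (vComb_lt c hc)]
    rfl
  have h1 : (vComb.map fun c => c.1 • pt1 c.2).sum = (2 : ℤ) • Spor.leechV := by
    apply eq_of_combOK pt1 f _ h
    intro c hc
    show (((eXS (psi g (fpt c.2)) : ↥XS) : ↥leechLattice) : GolayPt → ℤ) = _
    rw [eXS_val, hf c hc]
  have h2 : G ((vComb.map fun c => c.1 • pt0 c.2).sum) = (vComb.map fun c => c.1 • pt1 c.2).sum := by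
    rw [map_list_sum, List.map_map]
    congr 1
    apply List.map_congr_left
    intro c _
    show G (c.1 • pt0 c.2) = c.1 • pt1 c.2
    rw [map_zsmul]
    congr 1
    show (g : Equiv.Perm ↥leechLattice) ((eXS (fpt c.2) : ↥XS) : ↥leechLattice) = _
    rw [← XS_smul_val, ← psi_apply]
  rw [h0, h1, map_zsmul] at h2
  have h3 : G Spor.leechV = Spor.leechV := by
    apply Subtype.ext
    funext p
    have := congrArg (fun x : ↥leechLattice => (x : GolayPt → ℤ) p) h2
    simp only [AddSubgroup.coe_zsmul, Pi.smul_apply, smul_eq_mul] at this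
    exact mul_left_cancel₀ (by norm_num : (2 : ℤ) ≠ 0) this
  exact h3

/-- such an element lies in the McLaughlin group -/
theorem mem_McL (g : ↥Spor.Co2) (f : ℕ → ℕ) (hf : ∀ c ∈ vComb, (psi g (fpt c.2)).val = f c.2)
    (h : combOK f = true) : (g : Equiv.Perm ↥leechLattice) ∈ Spor.McL := by
  obtain ⟨hco, hU⟩ := (mem_Co2_iff g.1).mp g.2
  unfold Spor.McL Spor.Co3
  rw [Subgroup.mem_inf, Subgroup.mem_inf, MulAction.mem_stabilizer_iff, MulAction.mem_stabilizer_iff]
  exact ⟨⟨hco, fix_leechV g f hf h⟩, hU⟩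

end Cfsg.Agent.Lib.Helper21.Co2S
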