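import Cfsg.Agent.Lib.Helper28.TC2Upper
import Cfsg.Agent.Lib.Helper21.Co2S.PCo2DataC0
import Cfsg.Agent.Lib.Helper21.Co2S.PCo2DataC1
set_option autoImplicit false
set_option maxRecDepth 100000

namespace Cfsg.Agent.Lib.Helper21.Co2S.PCo2Data
open Cfsg.Agent.Lib.Helper28.TC2Upper

/-- relators -/
def relT : BT (ℕ × List ℕ × List ℕ) := (BT.node 16 (BT.node 8 (BT.node 4 (BT.node 2 (BT.node 1 (BT.node 0 (BT.leaf (2, [0, 0], [1, 1])) (BT.leaf (6, [2, 2, 2, 2, 2, 2], [3, 3, 3, 3, 3, 3]))) (BT.leaf (14, [2, 0, 2, 0, 2, 0, 2, 0, 2, 0, 2, 0, 2, 0], [1, 3, 1, 3, 1, 3, 1, 3, 1, 3, 1, 3, 1, 3]))) (BT.node 3 (BT.leaf (18, [0, 2, 2, 0, 2, 2, 0, 2, 2, 0, 3, 3, 0, 3, 3, 0, 3, 3], [2, 2, 1, 2, 2, 1, 2, 2, 1, 3, 3, 1, 3, 3, 1, 3, 3, 1])) (BT.leaf (21, [0, 2, 0, 3, 0, 3, 0, 2, 0, 3, 3, 0, 2, 0, 3, 3, 0, 2, 0, 3, 3], [2, 2, 1, 3, 1, 2, 2, 1, 3, 1, 2, 2, 1, 3, 1, 2, 1, 2, 1,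 3, 1])))) (BT.node 6 (BT.node 5 (BT.leaf (2, [4, 4], [5, 5])) (BT.leaf (8, [0, 4, 2, 2, 4, 0, 3, 3], [2, 2, 1, 5, 3, 3, 5, 1]))) (BT.node 7 (BT.leaf (15, [4, 0, 2, 0, 2, 4, 0, 3, 0, 2, 4, 0, 3, 0, 3], [2, 1, 2, 1, 5, 3, 1, 2, 1, 5, 3, 1, 3, 1, 5])) (BT.leaf (18, [0, 4, 2, 4, 3, 4, 3, 4, 3, 4, 3, 4, 3, 4, 3, 0, 3, 3], [2, 2, 1, 2, 5, 2, 5, 2, 5, 2, 5, 2, 5, 2, 5, 3, 5, 1]))))) (BT.node 12 (BT.node 10 (BT.node 9 (BT.leaf (20, [0, 2, 2, 0, 3, 3, 4, 2, 4, 0, 2, 4, 0, 3, 4, 0, 2, 0, 3, 3], [2, 2, 1, 3, 1, 5, 2, 1, 5, 3, 1, 5, 3, 5, 2, 2, 1, 3, 3, 1])) (BT.leaf (2, [6, 6], [7, 7]))) (BT.node 11 (BT.leaf (4, [1, 6, 0, 6], [7, 1, 7, 0])) (BT.leaf (18, [5, 2, 5, 1, 5, 2, 1, 3, 1, 3, 1, 3, 3, 3, 5, 6, 2, 6], [7, 3, 7, 4, 2, 2, 2, 0, 2, 0, 2, 0, 3, 4, 0, 4, 3, 4])))) (BT.node 14 (BT.node 13 (BT.leaf (4, [5, 6, 4, 6], [7, 5, 7, 4])) (BT.leaf (2, [8, 8], [9, 9]))) (BT.node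 15 (BT.leaf (12, [2, 2, 5, 3, 3, 9, 2, 2, 4, 3, 3, 8], [9, 2, 2, 5, 3, 3, 8, 2, 2, 4, 3, 3])) (BT.leaf (24, [3, 5, 2, 1, 2, 5, 2, 5, 2, 1, 5, 9, 4, 0, 3, 4, 3, 4, 3, 0, 3, 4, 2, 8], [9, 3, 5, 2, 1, 2, 5, 2, 5, 2, 1, 5, 8, 4, 0, 3, 4, 3, 4, 3, 0, 3, 4, 2])))))) (BT.node 25 (BT.node 21 (BT.node 19 (BT.node 18 (BT.node 17 (BT.leaf (6, [8, 6, 8, 6, 8, 6], [7, 9, 7, 9, 7, 9])) (BT.leaf (25, [4, 3, 4, 3, 0, 2, 8, 0, 4, 8, 4, 6, 8, 0, 2, 4, 2, 0, 8, 2, 2, 4, 3, 3, 3], [2, 2, 2, 5, 3, 3, 9, 1, 3, 5, 3, 1, 9, 7, 5, 9, 5, 1, 9, 3, 1, 2, 5, 2, 5]))) (BT.leaf (16, [6, 8, 2, 2, 0, 6, 3, 4, 0, 8, 0, 4, 2, 0, 3, 3], [2, 2, 1, 3, 5, 1, 9, 1, 5, 2, 7, 1, 3, 3, 9, 7]))) (BT.node 20 (BT.leaf (18, [8, 4, 6, 8, 0, 8, 6, 8, 4, 8, 0, 4, 8, 2, 2, 0, 3, 3], [2, 2, 1, 3, 3, 9, 5, 1, 9, 5, 9, 7, 9, 1, 9, 7, 5, 9])) (BT.leaf (2, [10, 10], [11, 11])))) (BT.node 23 (BT.node 22 (BT.leaf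 (4, [0, 10, 0, 10], [11, 1, 11, 1])) (BT.leaf (4, [3, 10, 2, 10], [11, 3, 11, 2]))) (BT.node 24 (BT.leaf (6, [0, 4, 0, 10, 4, 10], [11, 5, 11, 1, 5, 1])) (BT.leaf (8, [6, 4, 0, 4, 0, 10, 6, 10], [11, 7, 11, 1, 5, 1, 5, 7]))))) (BT.node 29 (BT.node 27 (BT.node 26 (BT.leaf (8, [0, 4, 8, 4, 0, 10, 8, 10], [11, 9, 11, 1, 5, 9, 5, 1])) (BT.leaf (2, [12, 12], [13, 13]))) (BT.node 28 (BT.leaf (4, [0, 12, 0, 12], [13, 1, 13, 1])) (BT.leaf (9, [3, 4, 0, 4, 0, 3, 12, 2, 12], [13, 3, 13, 2, 1, 5, 1, 5, 2])))) (BT.node 31 (BT.node 30 (BT.leaf (6, [0, 4, 0, 12, 4, 12], [13, 5, 13, 1, 5, 1])) (BT.leaf (4, [10, 12, 10, 12], [13, 11, 13, 11]))) (BT.node 32 (BT.leaf (14, [10, 6, 2, 2, 0, 2, 2, 0, 2, 2, 0, 12, 6, 12], [13, 7, 13, 1, 3, 3, 1, 3, 3, 1, 3, 3, 7, 11])) (BT.leaf (25, [8, 2, 2, 8, 6, 12, 8, 2, 8, 6, 3, 4, 0, 2, 0, 4, 8, 4, 0, 12, 8, 3, 3, 8, 12], [13, 9, 2, 2,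 9, 13, 1, 5, 9, 5, 1, 3, 1, 5, 2, 7, 9, 3, 9, 13, 7, 9, 3, 3, 9])))))))
/-- subgroup generators -/
def subT : BT (ℕ × List ℕ × List ℕ) := (BT.node 2 (BT.node 1 (BT.node 0 (BT.leaf (1, [0], [1])) (BT.leaf (1, [2], [3]))) (BT.leaf (1, [4], [5]))) (BT.node 3 (BT.leaf (1, [6], [7])) (BT.leaf (1, [8], [9]))))
/-- fact chunks -/
def colET : BT ℕ := (BT.node 344 (BT.node 172 (BT.node 86 (BT.node 43 (BT.node 21 (BT.node 10 (BT.node 5 (BT.node 2 (BT.node 1 (BT.node 0 (BT.leaf cE0) (BT.leaf cE1)) (BT.leaf cE2)) (BT.node 4 (BT.node 3 (BT.leaf cE3) (BT.leaf cE4)) (BT.leaf cE5))) (BT.node 8 (BT.node 7 (BT.node 6 (BT.leaf cE6) (BT.leaf cE7)) (BT.leaf cE8)) (BT.node 9 (BT.leaf cE9) (BT.leaf cE10)))) (BT.node 16 (BT.node 13 (BT.node 12 (BT.node 11 (BT.leaf cE11) (BT.leaf cE12)) (BT.leaf cE13)) (BT.node 15 (BT.node 14 (BT.leaf cE14) (BT.leaf cE15)) (BT.leaf cE16))) (BT.node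 19 (BT.node 18 (BT.node 17 (BT.leaf cE17) (BT.leaf cE18)) (BT.leaf cE19)) (BT.node 20 (BT.leaf cE20) (BT.leaf cE21))))) (BT.node 32 (BT.node 27 (BT.node 24 (BT.node 23 (BT.node 22 (BT.leaf cE22) (BT.leaf cE23)) (BT.leaf cE24)) (BT.node 26 (BT.node 25 (BT.leaf cE25) (BT.leaf cE26)) (BT.leaf cE27))) (BT.node 30 (BT.node 29 (BT.node 28 (BT.leaf cE28) (BT.leaf cE29)) (BT.leaf cE30)) (BT.node 31 (BT.leaf cE31) (BT.leaf cE32)))) (BT.node 38 (BT.node 35 (BT.node 34 (BT.node 33 (BT.leaf cE33) (BT.leaf cE34)) (BT.leaf cE35)) (BT.node 37 (BT.node 36 (BT.leaf cE36) (BT.leaf cE37)) (BT.leaf cE38))) (BT.node 41 (BT.node 40 (BT.node 39 (BT.leaf cE39) (BT.leaf cE40)) (BT.leaf cE41)) (BT.node 42 (BT.leaf cE42) (BT.leaf cE43)))))) (BT.node 65 (BT.node 54 (BT.node 49 (BT.node 46 (BT.node 45 (BT.node 44 (BT.leaf cE44) (BT.leaf cE45)) (BT.leaf cE46)) (BT.node 48 (BT.node 47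 (BT.leaf cE47) (BT.leaf cE48)) (BT.leaf cE49))) (BT.node 52 (BT.node 51 (BT.node 50 (BT.leaf cE50) (BT.leaf cE51)) (BT.leaf cE52)) (BT.node 53 (BT.leaf cE53) (BT.leaf cE54)))) (BT.node 60 (BT.node 57 (BT.node 56 (BT.node 55 (BT.leaf cE55) (BT.leaf cE56)) (BT.leaf cE57)) (BT.node 59 (BT.node 58 (BT.leaf cE58) (BT.leaf cE59)) (BT.leaf cE60))) (BT.node 63 (BT.node 62 (BT.node 61 (BT.leaf cE61) (BT.leaf cE62)) (BT.leaf cE63)) (BT.node 64 (BT.leaf cE64) (BT.leaf cE65))))) (BT.node 76 (BT.node 71 (BT.node 68 (BT.node 67 (BT.node 66 (BT.leaf cE66) (BT.leaf cE67)) (BT.leaf cE68)) (BT.node 70 (BT.node 69 (BT.leaf cE69) (BT.leaf cE70)) (BT.leaf cE71))) (BT.node 74 (BT.node 73 (BT.node 72 (BT.leaf cE72) (BT.leaf cE73)) (BT.leaf cE74)) (BT.node 75 (BT.leaf cE75) (BT.leaf cE76)))) (BT.node 81 (BT.node 79 (BT.node 78 (BT.node 77 (BT.leaf cE77) (BT.leaf cE78)) (BT.leaf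 cE79)) (BT.node 80 (BT.leaf cE80) (BT.leaf cE81))) (BT.node 84 (BT.node 83 (BT.node 82 (BT.leaf cE82) (BT.leaf cE83)) (BT.leaf cE84)) (BT.node 85 (BT.leaf cE85) (BT.leaf cE86))))))) (BT.node 129 (BT.node 108 (BT.node 97 (BT.node 92 (BT.node 89 (BT.node 88 (BT.node 87 (BT.leaf cE87) (BT.leaf cE88)) (BT.leaf cE89)) (BT.node 91 (BT.node 90 (BT.leaf cE90) (BT.leaf cE91)) (BT.leaf cE92))) (BT.node 95 (BT.node 94 (BT.node 93 (BT.leaf cE93) (BT.leaf cE94)) (BT.leaf cE95)) (BT.node 96 (BT.leaf cE96) (BT.leaf cE97)))) (BT.node 103 (BT.node 100 (BT.node 99 (BT.node 98 (BT.leaf cE98) (BT.leaf cE99)) (BT.leaf cE100)) (BT.node 102 (BT.node 101 (BT.leaf cE101) (BT.leaf cE102)) (BT.leaf cE103))) (BT.node 106 (BT.node 105 (BT.node 104 (BT.leaf cE104) (BT.leaf cE105)) (BT.leaf cE106)) (BT.node 107 (BT.leaf cE107) (BT.leaf cE108))))) (BT.node 119 (BT.node 114 (BT.node 111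 (BT.node 110 (BT.node 109 (BT.leaf cE109) (BT.leaf cE110)) (BT.leaf cE111)) (BT.node 113 (BT.node 112 (BT.leaf cE112) (BT.leaf cE113)) (BT.leaf cE114))) (BT.node 117 (BT.node 116 (BT.node 115 (BT.leaf cE115) (BT.leaf cE116)) (BT.leaf cE117)) (BT.node 118 (BT.leaf cE118) (BT.leaf cE119)))) (BT.node 124 (BT.node 122 (BT.node 121 (BT.node 120 (BT.leaf cE120) (BT.leaf cE121)) (BT.leaf cE122)) (BT.node 123 (BT.leaf cE123) (BT.leaf cE124))) (BT.node 127 (BT.node 126 (BT.node 125 (BT.leaf cE125) (BT.leaf cE126)) (BT.leaf cE127)) (BT.node 128 (BT.leaf cE128) (BT.leaf cE129)))))) (BT.node 151 (BT.node 140 (BT.node 135 (BT.node 132 (BT.node 131 (BT.node 130 (BT.leaf cE130) (BT.leaf cE131)) (BT.leaf cE132)) (BT.node 134 (BT.node 133 (BT.leaf cE133) (BT.leaf cE134)) (BT.leaf cE135))) (BT.node 138 (BT.node 137 (BT.node 136 (BT.leaf cE136) (BT.leaf cE137)) (BT.leaf cE138))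 (BT.node 139 (BT.leaf cE139) (BT.leaf cE140)))) (BT.node 146 (BT.node 143 (BT.node 142 (BT.node 141 (BT.leaf cE141) (BT.leaf cE142)) (BT.leaf cE143)) (BT.node 145 (BT.node 144 (BT.leaf cE144) (BT.leaf cE145)) (BT.leaf cE146))) (BT.node 149 (BT.node 148 (BT.node 147 (BT.leaf cE147) (BT.leaf cE148)) (BT.leaf cE149)) (BT.node 150 (BT.leaf cE150) (BT.leaf cE151))))) (BT.node 162 (BT.node 157 (BT.node 154 (BT.node 153 (BT.node 152 (BT.leaf cE152) (BT.leaf cE153)) (BT.leaf cE154)) (BT.node 156 (BT.node 155 (BT.leaf cE155) (BT.leaf cE156)) (BT.leaf cE157))) (BT.node 160 (BT.node 159 (BT.node 158 (BT.leaf cE158) (BT.leaf cE159)) (BT.leaf cE160)) (BT.node 161 (BT.leaf cE161) (BT.leaf cE162)))) (BT.node 167 (BT.node 165 (BT.node 164 (BT.node 163 (BT.leaf cE163) (BT.leaf cE164)) (BT.leaf cE165)) (BT.node 166 (BT.leaf cE166) (BT.leaf cE167))) (BT.node 170 (BT.node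 169 (BT.node 168 (BT.leaf cE168) (BT.leaf cE169)) (BT.leaf cE170)) (BT.node 171 (BT.leaf cE171) (BT.leaf cE172)))))))) (BT.node 258 (BT.node 215 (BT.node 194 (BT.node 183 (BT.node 178 (BT.node 175 (BT.node 174 (BT.node 173 (BT.leaf cE173) (BT.leaf cE174)) (BT.leaf cE175)) (BT.node 177 (BT.node 176 (BT.leaf cE176) (BT.leaf cE177)) (BT.leaf cE178))) (BT.node 181 (BT.node 180 (BT.node 179 (BT.leaf cE179) (BT.leaf cE180)) (BT.leaf cE181)) (BT.node 182 (BT.leaf cE182) (BT.leaf cE183)))) (BT.node 189 (BT.node 186 (BT.node 185 (BT.node 184 (BT.leaf cE184) (BT.leaf cE185)) (BT.leaf cE186)) (BT.node 188 (BT.node 187 (BT.leaf cE187) (BT.leaf cE188)) (BT.leaf cE189))) (BT.node 192 (BT.node 191 (BT.node 190 (BT.leaf cE190) (BT.leaf cE191)) (BT.leaf cE192)) (BT.node 193 (BT.leaf cE193) (BT.leaf cE194))))) (BT.node 205 (BT.node 200 (BT.node 197 (BT.node 196 (BT.node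 195 (BT.leaf cE195) (BT.leaf cE196)) (BT.leaf cE197)) (BT.node 199 (BT.node 198 (BT.leaf cE198) (BT.leaf cE199)) (BT.leaf cE200))) (BT.node 203 (BT.node 202 (BT.node 201 (BT.leaf cE201) (BT.leaf cE202)) (BT.leaf cE203)) (BT.node 204 (BT.leaf cE204) (BT.leaf cE205)))) (BT.node 210 (BT.node 208 (BT.node 207 (BT.node 206 (BT.leaf cE206) (BT.leaf cE207)) (BT.leaf cE208)) (BT.node 209 (BT.leaf cE209) (BT.leaf cE210))) (BT.node 213 (BT.node 212 (BT.node 211 (BT.leaf cE211) (BT.leaf cE212)) (BT.leaf cE213)) (BT.node 214 (BT.leaf cE214) (BT.leaf cE215)))))) (BT.node 237 (BT.node 226 (BT.node 221 (BT.node 218 (BT.node 217 (BT.node 216 (BT.leaf cE216) (BT.leaf cE217)) (BT.leaf cE218)) (BT.node 220 (BT.node 219 (BT.leaf cE219) (BT.leaf cE220)) (BT.leaf cE221))) (BT.node 224 (BT.node 223 (BT.node 222 (BT.leaf cE222) (BT.leaf cE223)) (BT.leaf cE224)) (BT.node 225 (BT.leaf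 cE225) (BT.leaf cE226)))) (BT.node 232 (BT.node 229 (BT.node 228 (BT.node 227 (BT.leaf cE227) (BT.leaf cE228)) (BT.leaf cE229)) (BT.node 231 (BT.node 230 (BT.leaf cE230) (BT.leaf cE231)) (BT.leaf cE232))) (BT.node 235 (BT.node 234 (BT.node 233 (BT.leaf cE233) (BT.leaf cE234)) (BT.leaf cE235)) (BT.node 236 (BT.leaf cE236) (BT.leaf cE237))))) (BT.node 248 (BT.node 243 (BT.node 240 (BT.node 239 (BT.node 238 (BT.leaf cE238) (BT.leaf cE239)) (BT.leaf cE240)) (BT.node 242 (BT.node 241 (BT.leaf cE241) (BT.leaf cE242)) (BT.leaf cE243))) (BT.node 246 (BT.node 245 (BT.node 244 (BT.leaf cE244) (BT.leaf cE245)) (BT.leaf cE246)) (BT.node 247 (BT.leaf cE247) (BT.leaf cE248)))) (BT.node 253 (BT.node 251 (BT.node 250 (BT.node 249 (BT.leaf cE249) (BT.leaf cE250)) (BT.leaf cE251)) (BT.node 252 (BT.leaf cE252) (BT.leaf cE253))) (BT.node 256 (BT.node 255 (BT.node 254 (BT.leaf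 cE254) (BT.leaf cE255)) (BT.leaf cE256)) (BT.node 257 (BT.leaf cE257) (BT.leaf cE258))))))) (BT.node 301 (BT.node 280 (BT.node 269 (BT.node 264 (BT.node 261 (BT.node 260 (BT.node 259 (BT.leaf cE259) (BT.leaf cE260)) (BT.leaf cE261)) (BT.node 263 (BT.node 262 (BT.leaf cE262) (BT.leaf cE263)) (BT.leaf cE264))) (BT.node 267 (BT.node 266 (BT.node 265 (BT.leaf cE265) (BT.leaf cE266)) (BT.leaf cE267)) (BT.node 268 (BT.leaf cE268) (BT.leaf cE269)))) (BT.node 275 (BT.node 272 (BT.node 271 (BT.node 270 (BT.leaf cE270) (BT.leaf cE271)) (BT.leaf cE272)) (BT.node 274 (BT.node 273 (BT.leaf cE273) (BT.leaf cE274)) (BT.leaf cE275))) (BT.node 278 (BT.node 277 (BT.node 276 (BT.leaf cE276) (BT.leaf cE277)) (BT.leaf cE278)) (BT.node 279 (BT.leaf cE279) (BT.leaf cE280))))) (BT.node 291 (BT.node 286 (BT.node 283 (BT.node 282 (BT.node 281 (BT.leaf cE281) (BT.leaf cE282)) (BT.leaf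 cE283)) (BT.node 285 (BT.node 284 (BT.leaf cE284) (BT.leaf cE285)) (BT.leaf cE286))) (BT.node 289 (BT.node 288 (BT.node 287 (BT.leaf cE287) (BT.leaf cE288)) (BT.leaf cE289)) (BT.node 290 (BT.leaf cE290) (BT.leaf cE291)))) (BT.node 296 (BT.node 294 (BT.node 293 (BT.node 292 (BT.leaf cE292) (BT.leaf cE293)) (BT.leaf cE294)) (BT.node 295 (BT.leaf cE295) (BT.leaf cE296))) (BT.node 299 (BT.node 298 (BT.node 297 (BT.leaf cE297) (BT.leaf cE298)) (BT.leaf cE299)) (BT.node 300 (BT.leaf cE300) (BT.leaf cE301)))))) (BT.node 323 (BT.node 312 (BT.node 307 (BT.node 304 (BT.node 303 (BT.node 302 (BT.leaf cE302) (BT.leaf cE303)) (BT.leaf cE304)) (BT.node 306 (BT.node 305 (BT.leaf cE305) (BT.leaf cE306)) (BT.leaf cE307))) (BT.node 310 (BT.node 309 (BT.node 308 (BT.leaf cE308) (BT.leaf cE309)) (BT.leaf cE310)) (BT.node 311 (BT.leaf cE311) (BT.leaf cE312)))) (BT.node 318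 (BT.node 315 (BT.node 314 (BT.node 313 (BT.leaf cE313) (BT.leaf cE314)) (BT.leaf cE315)) (BT.node 317 (BT.node 316 (BT.leaf cE316) (BT.leaf cE317)) (BT.leaf cE318))) (BT.node 321 (BT.node 320 (BT.node 319 (BT.leaf cE319) (BT.leaf cE320)) (BT.leaf cE321)) (BT.node 322 (BT.leaf cE322) (BT.leaf cE323))))) (BT.node 334 (BT.node 329 (BT.node 326 (BT.node 325 (BT.node 324 (BT.leaf cE324) (BT.leaf cE325)) (BT.leaf cE326)) (BT.node 328 (BT.node 327 (BT.leaf cE327) (BT.leaf cE328)) (BT.leaf cE329))) (BT.node 332 (BT.node 331 (BT.node 330 (BT.leaf cE330) (BT.leaf cE331)) (BT.leaf cE332)) (BT.node 333 (BT.leaf cE333) (BT.leaf cE334)))) (BT.node 339 (BT.node 337 (BT.node 336 (BT.node 335 (BT.leaf cE335) (BT.leaf cE336)) (BT.leaf cE337)) (BT.node 338 (BT.leaf cE338) (BT.leaf cE339))) (BT.node 342 (BT.node 341 (BT.node 340 (BT.leaf cE340) (BT.leaf cE341)) (BT.leaf cE342))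 (BT.node 343 (BT.leaf cE343) (BT.leaf cE344))))))))) (BT.node 517 (BT.node 431 (BT.node 388 (BT.node 366 (BT.node 355 (BT.node 350 (BT.node 347 (BT.node 346 (BT.node 345 (BT.leaf cE345) (BT.leaf cE346)) (BT.leaf cE347)) (BT.node 349 (BT.node 348 (BT.leaf cE348) (BT.leaf cE349)) (BT.leaf cE350))) (BT.node 353 (BT.node 352 (BT.node 351 (BT.leaf cE351) (BT.leaf cE352)) (BT.leaf cE353)) (BT.node 354 (BT.leaf cE354) (BT.leaf cE355)))) (BT.node 361 (BT.node 358 (BT.node 357 (BT.node 356 (BT.leaf cE356) (BT.leaf cE357)) (BT.leaf cE358)) (BT.node 360 (BT.node 359 (BT.leaf cE359) (BT.leaf cE360)) (BT.leaf cE361))) (BT.node 364 (BT.node 363 (BT.node 362 (BT.leaf cE362) (BT.leaf cE363)) (BT.leaf cE364)) (BT.node 365 (BT.leaf cE365) (BT.leaf cE366))))) (BT.node 377 (BT.node 372 (BT.node 369 (BT.node 368 (BT.node 367 (BT.leaf cE367) (BT.leaf cE368)) (BT.leaf cE369))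 (BT.node 371 (BT.node 370 (BT.leaf cE370) (BT.leaf cE371)) (BT.leaf cE372))) (BT.node 375 (BT.node 374 (BT.node 373 (BT.leaf cE373) (BT.leaf cE374)) (BT.leaf cE375)) (BT.node 376 (BT.leaf cE376) (BT.leaf cE377)))) (BT.node 383 (BT.node 380 (BT.node 379 (BT.node 378 (BT.leaf cE378) (BT.leaf cE379)) (BT.leaf cE380)) (BT.node 382 (BT.node 381 (BT.leaf cE381) (BT.leaf cE382)) (BT.leaf cE383))) (BT.node 386 (BT.node 385 (BT.node 384 (BT.leaf cE384) (BT.leaf cE385)) (BT.leaf cE386)) (BT.node 387 (BT.leaf cE387) (BT.leaf cE388)))))) (BT.node 410 (BT.node 399 (BT.node 394 (BT.node 391 (BT.node 390 (BT.node 389 (BT.leaf cE389) (BT.leaf cE390)) (BT.leaf cE391)) (BT.node 393 (BT.node 392 (BT.leaf cE392) (BT.leaf cE393)) (BT.leaf cE394))) (BT.node 397 (BT.node 396 (BT.node 395 (BT.leaf cE395) (BT.leaf cE396)) (BT.leaf cE397)) (BT.node 398 (BT.leaf cE398) (BT.leaf cE399))))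 (BT.node 405 (BT.node 402 (BT.node 401 (BT.node 400 (BT.leaf cE400) (BT.leaf cE401)) (BT.leaf cE402)) (BT.node 404 (BT.node 403 (BT.leaf cE403) (BT.leaf cE404)) (BT.leaf cE405))) (BT.node 408 (BT.node 407 (BT.node 406 (BT.leaf cE406) (BT.leaf cE407)) (BT.leaf cE408)) (BT.node 409 (BT.leaf cE409) (BT.leaf cE410))))) (BT.node 421 (BT.node 416 (BT.node 413 (BT.node 412 (BT.node 411 (BT.leaf cE411) (BT.leaf cE412)) (BT.leaf cE413)) (BT.node 415 (BT.node 414 (BT.leaf cE414) (BT.leaf cE415)) (BT.leaf cE416))) (BT.node 419 (BT.node 418 (BT.node 417 (BT.leaf cE417) (BT.leaf cE418)) (BT.leaf cE419)) (BT.node 420 (BT.leaf cE420) (BT.leaf cE421)))) (BT.node 426 (BT.node 424 (BT.node 423 (BT.node 422 (BT.leaf cE422) (BT.leaf cE423)) (BT.leaf cE424)) (BT.node 425 (BT.leaf cE425) (BT.leaf cE426))) (BT.node 429 (BT.node 428 (BT.node 427 (BT.leaf cE427) (BT.leaf cE428))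 (BT.leaf cE429)) (BT.node 430 (BT.leaf cE430) (BT.leaf cE431))))))) (BT.node 474 (BT.node 453 (BT.node 442 (BT.node 437 (BT.node 434 (BT.node 433 (BT.node 432 (BT.leaf cE432) (BT.leaf cE433)) (BT.leaf cE434)) (BT.node 436 (BT.node 435 (BT.leaf cE435) (BT.leaf cE436)) (BT.leaf cE437))) (BT.node 440 (BT.node 439 (BT.node 438 (BT.leaf cE438) (BT.leaf cE439)) (BT.leaf cE440)) (BT.node 441 (BT.leaf cE441) (BT.leaf cE442)))) (BT.node 448 (BT.node 445 (BT.node 444 (BT.node 443 (BT.leaf cE443) (BT.leaf cE444)) (BT.leaf cE445)) (BT.node 447 (BT.node 446 (BT.leaf cE446) (BT.leaf cE447)) (BT.leaf cE448))) (BT.node 451 (BT.node 450 (BT.node 449 (BT.leaf cE449) (BT.leaf cE450)) (BT.leaf cE451)) (BT.node 452 (BT.leaf cE452) (BT.leaf cE453))))) (BT.node 464 (BT.node 459 (BT.node 456 (BT.node 455 (BT.node 454 (BT.leaf cE454) (BT.leaf cE455)) (BT.leaf cE456)) (BT.node 458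 (BT.node 457 (BT.leaf cE457) (BT.leaf cE458)) (BT.leaf cE459))) (BT.node 462 (BT.node 461 (BT.node 460 (BT.leaf cE460) (BT.leaf cE461)) (BT.leaf cE462)) (BT.node 463 (BT.leaf cE463) (BT.leaf cE464)))) (BT.node 469 (BT.node 467 (BT.node 466 (BT.node 465 (BT.leaf cE465) (BT.leaf cE466)) (BT.leaf cE467)) (BT.node 468 (BT.leaf cE468) (BT.leaf cE469))) (BT.node 472 (BT.node 471 (BT.node 470 (BT.leaf cE470) (BT.leaf cE471)) (BT.leaf cE472)) (BT.node 473 (BT.leaf cE473) (BT.leaf cE474)))))) (BT.node 496 (BT.node 485 (BT.node 480 (BT.node 477 (BT.node 476 (BT.node 475 (BT.leaf cE475) (BT.leaf cE476)) (BT.leaf cE477)) (BT.node 479 (BT.node 478 (BT.leaf cE478) (BT.leaf cE479)) (BT.leaf cE480))) (BT.node 483 (BT.node 482 (BT.node 481 (BT.leaf cE481) (BT.leaf cE482)) (BT.leaf cE483)) (BT.node 484 (BT.leaf cE484) (BT.leaf cE485)))) (BT.node 491 (BT.node 488 (BT.node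 487 (BT.node 486 (BT.leaf cE486) (BT.leaf cE487)) (BT.leaf cE488)) (BT.node 490 (BT.node 489 (BT.leaf cE489) (BT.leaf cE490)) (BT.leaf cE491))) (BT.node 494 (BT.node 493 (BT.node 492 (BT.leaf cE492) (BT.leaf cE493)) (BT.leaf cE494)) (BT.node 495 (BT.leaf cE495) (BT.leaf cE496))))) (BT.node 507 (BT.node 502 (BT.node 499 (BT.node 498 (BT.node 497 (BT.leaf cE497) (BT.leaf cE498)) (BT.leaf cE499)) (BT.node 501 (BT.node 500 (BT.leaf cE500) (BT.leaf cE501)) (BT.leaf cE502))) (BT.node 505 (BT.node 504 (BT.node 503 (BT.leaf cE503) (BT.leaf cE504)) (BT.leaf cE505)) (BT.node 506 (BT.leaf cE506) (BT.leaf cE507)))) (BT.node 512 (BT.node 510 (BT.node 509 (BT.node 508 (BT.leaf cE508) (BT.leaf cE509)) (BT.leaf cE510)) (BT.node 511 (BT.leaf cE511) (BT.leaf cE512))) (BT.node 515 (BT.node 514 (BT.node 513 (BT.leaf cE513) (BT.leaf cE514)) (BT.leaf cE515)) (BT.node 516 (BT.leaf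 cE516) (BT.leaf cE517)))))))) (BT.node 603 (BT.node 560 (BT.node 539 (BT.node 528 (BT.node 523 (BT.node 520 (BT.node 519 (BT.node 518 (BT.leaf cE518) (BT.leaf cE519)) (BT.leaf cE520)) (BT.node 522 (BT.node 521 (BT.leaf cE521) (BT.leaf cE522)) (BT.leaf cE523))) (BT.node 526 (BT.node 525 (BT.node 524 (BT.leaf cE524) (BT.leaf cE525)) (BT.leaf cE526)) (BT.node 527 (BT.leaf cE527) (BT.leaf cE528)))) (BT.node 534 (BT.node 531 (BT.node 530 (BT.node 529 (BT.leaf cE529) (BT.leaf cE530)) (BT.leaf cE531)) (BT.node 533 (BT.node 532 (BT.leaf cE532) (BT.leaf cE533)) (BT.leaf cE534))) (BT.node 537 (BT.node 536 (BT.node 535 (BT.leaf cE535) (BT.leaf cE536)) (BT.leaf cE537)) (BT.node 538 (BT.leaf cE538) (BT.leaf cE539))))) (BT.node 550 (BT.node 545 (BT.node 542 (BT.node 541 (BT.node 540 (BT.leaf cE540) (BT.leaf cE541)) (BT.leaf cE542)) (BT.node 544 (BT.node 543 (BT.leaf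 cE543) (BT.leaf cE544)) (BT.leaf cE545))) (BT.node 548 (BT.node 547 (BT.node 546 (BT.leaf cE546) (BT.leaf cE547)) (BT.leaf cE548)) (BT.node 549 (BT.leaf cE549) (BT.leaf cE550)))) (BT.node 555 (BT.node 553 (BT.node 552 (BT.node 551 (BT.leaf cE551) (BT.leaf cE552)) (BT.leaf cE553)) (BT.node 554 (BT.leaf cE554) (BT.leaf cE555))) (BT.node 558 (BT.node 557 (BT.node 556 (BT.leaf cE556) (BT.leaf cE557)) (BT.leaf cE558)) (BT.node 559 (BT.leaf cE559) (BT.leaf cE560)))))) (BT.node 582 (BT.node 571 (BT.node 566 (BT.node 563 (BT.node 562 (BT.node 561 (BT.leaf cE561) (BT.leaf cE562)) (BT.leaf cE563)) (BT.node 565 (BT.node 564 (BT.leaf cE564) (BT.leaf cE565)) (BT.leaf cE566))) (BT.node 569 (BT.node 568 (BT.node 567 (BT.leaf cE567) (BT.leaf cE568)) (BT.leaf cE569)) (BT.node 570 (BT.leaf cE570) (BT.leaf cE571)))) (BT.node 577 (BT.node 574 (BT.node 573 (BT.node 572 (BT.leaf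 cE572) (BT.leaf cE573)) (BT.leaf cE574)) (BT.node 576 (BT.node 575 (BT.leaf cE575) (BT.leaf cE576)) (BT.leaf cE577))) (BT.node 580 (BT.node 579 (BT.node 578 (BT.leaf cE578) (BT.leaf cE579)) (BT.leaf cE580)) (BT.node 581 (BT.leaf cE581) (BT.leaf cE582))))) (BT.node 593 (BT.node 588 (BT.node 585 (BT.node 584 (BT.node 583 (BT.leaf cE583) (BT.leaf cE584)) (BT.leaf cE585)) (BT.node 587 (BT.node 586 (BT.leaf cE586) (BT.leaf cE587)) (BT.leaf cE588))) (BT.node 591 (BT.node 590 (BT.node 589 (BT.leaf cE589) (BT.leaf cE590)) (BT.leaf cE591)) (BT.node 592 (BT.leaf cE592) (BT.leaf cE593)))) (BT.node 598 (BT.node 596 (BT.node 595 (BT.node 594 (BT.leaf cE594) (BT.leaf cE595)) (BT.leaf cE596)) (BT.node 597 (BT.leaf cE597) (BT.leaf cE598))) (BT.node 601 (BT.node 600 (BT.node 599 (BT.leaf cE599) (BT.leaf cE600)) (BT.leaf cE601)) (BT.node 602 (BT.leaf cE602) (BT.leaf cE603)))))))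 (BT.node 646 (BT.node 625 (BT.node 614 (BT.node 609 (BT.node 606 (BT.node 605 (BT.node 604 (BT.leaf cE604) (BT.leaf cE605)) (BT.leaf cE606)) (BT.node 608 (BT.node 607 (BT.leaf cE607) (BT.leaf cE608)) (BT.leaf cE609))) (BT.node 612 (BT.node 611 (BT.node 610 (BT.leaf cE610) (BT.leaf cE611)) (BT.leaf cE612)) (BT.node 613 (BT.leaf cE613) (BT.leaf cE614)))) (BT.node 620 (BT.node 617 (BT.node 616 (BT.node 615 (BT.leaf cE615) (BT.leaf cE616)) (BT.leaf cE617)) (BT.node 619 (BT.node 618 (BT.leaf cE618) (BT.leaf cE619)) (BT.leaf cE620))) (BT.node 623 (BT.node 622 (BT.node 621 (BT.leaf cE621) (BT.leaf cE622)) (BT.leaf cE623)) (BT.node 624 (BT.leaf cE624) (BT.leaf cE625))))) (BT.node 636 (BT.node 631 (BT.node 628 (BT.node 627 (BT.node 626 (BT.leaf cE626) (BT.leaf cE627)) (BT.leaf cE628)) (BT.node 630 (BT.node 629 (BT.leaf cE629) (BT.leaf cE630)) (BT.leaf cE631))) (BT.node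 634 (BT.node 633 (BT.node 632 (BT.leaf cE632) (BT.leaf cE633)) (BT.leaf cE634)) (BT.node 635 (BT.leaf cE635) (BT.leaf cE636)))) (BT.node 641 (BT.node 639 (BT.node 638 (BT.node 637 (BT.leaf cE637) (BT.leaf cE638)) (BT.leaf cE639)) (BT.node 640 (BT.leaf cE640) (BT.leaf cE641))) (BT.node 644 (BT.node 643 (BT.node 642 (BT.leaf cE642) (BT.leaf cE643)) (BT.leaf cE644)) (BT.node 645 (BT.leaf cE645) (BT.leaf cE646)))))) (BT.node 668 (BT.node 657 (BT.node 652 (BT.node 649 (BT.node 648 (BT.node 647 (BT.leaf cE647) (BT.leaf cE648)) (BT.leaf cE649)) (BT.node 651 (BT.node 650 (BT.leaf cE650) (BT.leaf cE651)) (BT.leaf cE652))) (BT.node 655 (BT.node 654 (BT.node 653 (BT.leaf cE653) (BT.leaf cE654)) (BT.leaf cE655)) (BT.node 656 (BT.leaf cE656) (BT.leaf cE657)))) (BT.node 663 (BT.node 660 (BT.node 659 (BT.node 658 (BT.leaf cE658) (BT.leaf cE659)) (BT.leaf cE660)) (BT.node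 662 (BT.node 661 (BT.leaf cE661) (BT.leaf cE662)) (BT.leaf cE663))) (BT.node 666 (BT.node 665 (BT.node 664 (BT.leaf cE664) (BT.leaf cE665)) (BT.leaf cE666)) (BT.node 667 (BT.leaf cE667) (BT.leaf cE668))))) (BT.node 679 (BT.node 674 (BT.node 671 (BT.node 670 (BT.node 669 (BT.leaf cE669) (BT.leaf cE670)) (BT.leaf cE671)) (BT.node 673 (BT.node 672 (BT.leaf cE672) (BT.leaf cE673)) (BT.leaf cE674))) (BT.node 677 (BT.node 676 (BT.node 675 (BT.leaf cE675) (BT.leaf cE676)) (BT.leaf cE677)) (BT.node 678 (BT.leaf cE678) (BT.leaf cE679)))) (BT.node 684 (BT.node 682 (BT.node 681 (BT.node 680 (BT.leaf cE680) (BT.leaf cE681)) (BT.leaf cE682)) (BT.node 683 (BT.leaf cE683) (BT.leaf cE684))) (BT.node 687 (BT.node 686 (BT.node 685 (BT.leaf cE685) (BT.leaf cE686)) (BT.leaf cE687)) (BT.node 688 (BT.leaf cE688) (BT.leaf cE689))))))))))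
/-- justification chunks -/
def colJT : BT ℕ := (BT.node 344 (BT.node 172 (BT.node 86 (BT.node 43 (BT.node 21 (BT.node 10 (BT.node 5 (BT.node 2 (BT.node 1 (BT.node 0 (BT.leaf cJ0) (BT.leaf cJ1)) (BT.leaf cJ2)) (BT.node 4 (BT.node 3 (BT.leaf cJ3) (BT.leaf cJ4)) (BT.leaf cJ5))) (BT.node 8 (BT.node 7 (BT.node 6 (BT.leaf cJ6) (BT.leaf cJ7)) (BT.leaf cJ8)) (BT.node 9 (BT.leaf cJ9) (BT.leaf cJ10)))) (BT.node 16 (BT.node 13 (BT.node 12 (BT.node 11 (BT.leaf cJ11) (BT.leaf cJ12)) (BT.leaf cJ13)) (BT.node 15 (BT.node 14 (BT.leaf cJ14) (BT.leaf cJ15)) (BT.leaf cJ16))) (BT.node 19 (BT.node 18 (BT.node 17 (BT.leaf cJ17) (BT.leaf cJ18)) (BT.leaf cJ19)) (BT.node 20 (BT.leaf cJ20) (BT.leaf cJ21))))) (BT.node 32 (BT.node 27 (BT.node 24 (BT.node 23 (BT.node 22 (BT.leaf cJ22) (BT.leaf cJ23)) (BT.leaf cJ24)) (BT.node 26 (BT.node 25 (BT.leaf cJ25) (BT.leaf cJ26)) (BT.leaf cJ27)))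 (BT.node 30 (BT.node 29 (BT.node 28 (BT.leaf cJ28) (BT.leaf cJ29)) (BT.leaf cJ30)) (BT.node 31 (BT.leaf cJ31) (BT.leaf cJ32)))) (BT.node 38 (BT.node 35 (BT.node 34 (BT.node 33 (BT.leaf cJ33) (BT.leaf cJ34)) (BT.leaf cJ35)) (BT.node 37 (BT.node 36 (BT.leaf cJ36) (BT.leaf cJ37)) (BT.leaf cJ38))) (BT.node 41 (BT.node 40 (BT.node 39 (BT.leaf cJ39) (BT.leaf cJ40)) (BT.leaf cJ41)) (BT.node 42 (BT.leaf cJ42) (BT.leaf cJ43)))))) (BT.node 65 (BT.node 54 (BT.node 49 (BT.node 46 (BT.node 45 (BT.node 44 (BT.leaf cJ44) (BT.leaf cJ45)) (BT.leaf cJ46)) (BT.node 48 (BT.node 47 (BT.leaf cJ47) (BT.leaf cJ48)) (BT.leaf cJ49))) (BT.node 52 (BT.node 51 (BT.node 50 (BT.leaf cJ50) (BT.leaf cJ51)) (BT.leaf cJ52)) (BT.node 53 (BT.leaf cJ53) (BT.leaf cJ54)))) (BT.node 60 (BT.node 57 (BT.node 56 (BT.node 55 (BT.leaf cJ55) (BT.leaf cJ56)) (BT.leaf cJ57)) (BT.node 59 (BT.node 58 (BT.leaf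 cJ58) (BT.leaf cJ59)) (BT.leaf cJ60))) (BT.node 63 (BT.node 62 (BT.node 61 (BT.leaf cJ61) (BT.leaf cJ62)) (BT.leaf cJ63)) (BT.node 64 (BT.leaf cJ64) (BT.leaf cJ65))))) (BT.node 76 (BT.node 71 (BT.node 68 (BT.node 67 (BT.node 66 (BT.leaf cJ66) (BT.leaf cJ67)) (BT.leaf cJ68)) (BT.node 70 (BT.node 69 (BT.leaf cJ69) (BT.leaf cJ70)) (BT.leaf cJ71))) (BT.node 74 (BT.node 73 (BT.node 72 (BT.leaf cJ72) (BT.leaf cJ73)) (BT.leaf cJ74)) (BT.node 75 (BT.leaf cJ75) (BT.leaf cJ76)))) (BT.node 81 (BT.node 79 (BT.node 78 (BT.node 77 (BT.leaf cJ77) (BT.leaf cJ78)) (BT.leaf cJ79)) (BT.node 80 (BT.leaf cJ80) (BT.leaf cJ81))) (BT.node 84 (BT.node 83 (BT.node 82 (BT.leaf cJ82) (BT.leaf cJ83)) (BT.leaf cJ84)) (BT.node 85 (BT.leaf cJ85) (BT.leaf cJ86))))))) (BT.node 129 (BT.node 108 (BT.node 97 (BT.node 92 (BT.node 89 (BT.node 88 (BT.node 87 (BT.leaf cJ87) (BT.leaf cJ88)) (BT.leaf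 cJ89)) (BT.node 91 (BT.node 90 (BT.leaf cJ90) (BT.leaf cJ91)) (BT.leaf cJ92))) (BT.node 95 (BT.node 94 (BT.node 93 (BT.leaf cJ93) (BT.leaf cJ94)) (BT.leaf cJ95)) (BT.node 96 (BT.leaf cJ96) (BT.leaf cJ97)))) (BT.node 103 (BT.node 100 (BT.node 99 (BT.node 98 (BT.leaf cJ98) (BT.leaf cJ99)) (BT.leaf cJ100)) (BT.node 102 (BT.node 101 (BT.leaf cJ101) (BT.leaf cJ102)) (BT.leaf cJ103))) (BT.node 106 (BT.node 105 (BT.node 104 (BT.leaf cJ104) (BT.leaf cJ105)) (BT.leaf cJ106)) (BT.node 107 (BT.leaf cJ107) (BT.leaf cJ108))))) (BT.node 119 (BT.node 114 (BT.node 111 (BT.node 110 (BT.node 109 (BT.leaf cJ109) (BT.leaf cJ110)) (BT.leaf cJ111)) (BT.node 113 (BT.node 112 (BT.leaf cJ112) (BT.leaf cJ113)) (BT.leaf cJ114))) (BT.node 117 (BT.node 116 (BT.node 115 (BT.leaf cJ115) (BT.leaf cJ116)) (BT.leaf cJ117)) (BT.node 118 (BT.leaf cJ118) (BT.leaf cJ119)))) (BT.node 124 (BT.node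 122 (BT.node 121 (BT.node 120 (BT.leaf cJ120) (BT.leaf cJ121)) (BT.leaf cJ122)) (BT.node 123 (BT.leaf cJ123) (BT.leaf cJ124))) (BT.node 127 (BT.node 126 (BT.node 125 (BT.leaf cJ125) (BT.leaf cJ126)) (BT.leaf cJ127)) (BT.node 128 (BT.leaf cJ128) (BT.leaf cJ129)))))) (BT.node 151 (BT.node 140 (BT.node 135 (BT.node 132 (BT.node 131 (BT.node 130 (BT.leaf cJ130) (BT.leaf cJ131)) (BT.leaf cJ132)) (BT.node 134 (BT.node 133 (BT.leaf cJ133) (BT.leaf cJ134)) (BT.leaf cJ135))) (BT.node 138 (BT.node 137 (BT.node 136 (BT.leaf cJ136) (BT.leaf cJ137)) (BT.leaf cJ138)) (BT.node 139 (BT.leaf cJ139) (BT.leaf cJ140)))) (BT.node 146 (BT.node 143 (BT.node 142 (BT.node 141 (BT.leaf cJ141) (BT.leaf cJ142)) (BT.leaf cJ143)) (BT.node 145 (BT.node 144 (BT.leaf cJ144) (BT.leaf cJ145)) (BT.leaf cJ146))) (BT.node 149 (BT.node 148 (BT.node 147 (BT.leaf cJ147) (BT.leaf cJ148)) (BT.leaf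 cJ149)) (BT.node 150 (BT.leaf cJ150) (BT.leaf cJ151))))) (BT.node 162 (BT.node 157 (BT.node 154 (BT.node 153 (BT.node 152 (BT.leaf cJ152) (BT.leaf cJ153)) (BT.leaf cJ154)) (BT.node 156 (BT.node 155 (BT.leaf cJ155) (BT.leaf cJ156)) (BT.leaf cJ157))) (BT.node 160 (BT.node 159 (BT.node 158 (BT.leaf cJ158) (BT.leaf cJ159)) (BT.leaf cJ160)) (BT.node 161 (BT.leaf cJ161) (BT.leaf cJ162)))) (BT.node 167 (BT.node 165 (BT.node 164 (BT.node 163 (BT.leaf cJ163) (BT.leaf cJ164)) (BT.leaf cJ165)) (BT.node 166 (BT.leaf cJ166) (BT.leaf cJ167))) (BT.node 170 (BT.node 169 (BT.node 168 (BT.leaf cJ168) (BT.leaf cJ169)) (BT.leaf cJ170)) (BT.node 171 (BT.leaf cJ171) (BT.leaf cJ172)))))))) (BT.node 258 (BT.node 215 (BT.node 194 (BT.node 183 (BT.node 178 (BT.node 175 (BT.node 174 (BT.node 173 (BT.leaf cJ173) (BT.leaf cJ174)) (BT.leaf cJ175)) (BT.node 177 (BT.node 176 (BT.leaf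 cJ176) (BT.leaf cJ177)) (BT.leaf cJ178))) (BT.node 181 (BT.node 180 (BT.node 179 (BT.leaf cJ179) (BT.leaf cJ180)) (BT.leaf cJ181)) (BT.node 182 (BT.leaf cJ182) (BT.leaf cJ183)))) (BT.node 189 (BT.node 186 (BT.node 185 (BT.node 184 (BT.leaf cJ184) (BT.leaf cJ185)) (BT.leaf cJ186)) (BT.node 188 (BT.node 187 (BT.leaf cJ187) (BT.leaf cJ188)) (BT.leaf cJ189))) (BT.node 192 (BT.node 191 (BT.node 190 (BT.leaf cJ190) (BT.leaf cJ191)) (BT.leaf cJ192)) (BT.node 193 (BT.leaf cJ193) (BT.leaf cJ194))))) (BT.node 205 (BT.node 200 (BT.node 197 (BT.node 196 (BT.node 195 (BT.leaf cJ195) (BT.leaf cJ196)) (BT.leaf cJ197)) (BT.node 199 (BT.node 198 (BT.leaf cJ198) (BT.leaf cJ199)) (BT.leaf cJ200))) (BT.node 203 (BT.node 202 (BT.node 201 (BT.leaf cJ201) (BT.leaf cJ202)) (BT.leaf cJ203)) (BT.node 204 (BT.leaf cJ204) (BT.leaf cJ205)))) (BT.node 210 (BT.node 208 (BT.node 207 (BT.node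 206 (BT.leaf cJ206) (BT.leaf cJ207)) (BT.leaf cJ208)) (BT.node 209 (BT.leaf cJ209) (BT.leaf cJ210))) (BT.node 213 (BT.node 212 (BT.node 211 (BT.leaf cJ211) (BT.leaf cJ212)) (BT.leaf cJ213)) (BT.node 214 (BT.leaf cJ214) (BT.leaf cJ215)))))) (BT.node 237 (BT.node 226 (BT.node 221 (BT.node 218 (BT.node 217 (BT.node 216 (BT.leaf cJ216) (BT.leaf cJ217)) (BT.leaf cJ218)) (BT.node 220 (BT.node 219 (BT.leaf cJ219) (BT.leaf cJ220)) (BT.leaf cJ221))) (BT.node 224 (BT.node 223 (BT.node 222 (BT.leaf cJ222) (BT.leaf cJ223)) (BT.leaf cJ224)) (BT.node 225 (BT.leaf cJ225) (BT.leaf cJ226)))) (BT.node 232 (BT.node 229 (BT.node 228 (BT.node 227 (BT.leaf cJ227) (BT.leaf cJ228)) (BT.leaf cJ229)) (BT.node 231 (BT.node 230 (BT.leaf cJ230) (BT.leaf cJ231)) (BT.leaf cJ232))) (BT.node 235 (BT.node 234 (BT.node 233 (BT.leaf cJ233) (BT.leaf cJ234)) (BT.leaf cJ235)) (BT.node 236 (BT.leaf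 cJ236) (BT.leaf cJ237))))) (BT.node 248 (BT.node 243 (BT.node 240 (BT.node 239 (BT.node 238 (BT.leaf cJ238) (BT.leaf cJ239)) (BT.leaf cJ240)) (BT.node 242 (BT.node 241 (BT.leaf cJ241) (BT.leaf cJ242)) (BT.leaf cJ243))) (BT.node 246 (BT.node 245 (BT.node 244 (BT.leaf cJ244) (BT.leaf cJ245)) (BT.leaf cJ246)) (BT.node 247 (BT.leaf cJ247) (BT.leaf cJ248)))) (BT.node 253 (BT.node 251 (BT.node 250 (BT.node 249 (BT.leaf cJ249) (BT.leaf cJ250)) (BT.leaf cJ251)) (BT.node 252 (BT.leaf cJ252) (BT.leaf cJ253))) (BT.node 256 (BT.node 255 (BT.node 254 (BT.leaf cJ254) (BT.leaf cJ255)) (BT.leaf cJ256)) (BT.node 257 (BT.leaf cJ257) (BT.leaf cJ258))))))) (BT.node 301 (BT.node 280 (BT.node 269 (BT.node 264 (BT.node 261 (BT.node 260 (BT.node 259 (BT.leaf cJ259) (BT.leaf cJ260)) (BT.leaf cJ261)) (BT.node 263 (BT.node 262 (BT.leaf cJ262) (BT.leaf cJ263)) (BT.leaf cJ264))) (BT.node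 267 (BT.node 266 (BT.node 265 (BT.leaf cJ265) (BT.leaf cJ266)) (BT.leaf cJ267)) (BT.node 268 (BT.leaf cJ268) (BT.leaf cJ269)))) (BT.node 275 (BT.node 272 (BT.node 271 (BT.node 270 (BT.leaf cJ270) (BT.leaf cJ271)) (BT.leaf cJ272)) (BT.node 274 (BT.node 273 (BT.leaf cJ273) (BT.leaf cJ274)) (BT.leaf cJ275))) (BT.node 278 (BT.node 277 (BT.node 276 (BT.leaf cJ276) (BT.leaf cJ277)) (BT.leaf cJ278)) (BT.node 279 (BT.leaf cJ279) (BT.leaf cJ280))))) (BT.node 291 (BT.node 286 (BT.node 283 (BT.node 282 (BT.node 281 (BT.leaf cJ281) (BT.leaf cJ282)) (BT.leaf cJ283)) (BT.node 285 (BT.node 284 (BT.leaf cJ284) (BT.leaf cJ285)) (BT.leaf cJ286))) (BT.node 289 (BT.node 288 (BT.node 287 (BT.leaf cJ287) (BT.leaf cJ288)) (BT.leaf cJ289)) (BT.node 290 (BT.leaf cJ290) (BT.leaf cJ291)))) (BT.node 296 (BT.node 294 (BT.node 293 (BT.node 292 (BT.leaf cJ292) (BT.leaf cJ293)) (BT.leaf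 cJ294)) (BT.node 295 (BT.leaf cJ295) (BT.leaf cJ296))) (BT.node 299 (BT.node 298 (BT.node 297 (BT.leaf cJ297) (BT.leaf cJ298)) (BT.leaf cJ299)) (BT.node 300 (BT.leaf cJ300) (BT.leaf cJ301)))))) (BT.node 323 (BT.node 312 (BT.node 307 (BT.node 304 (BT.node 303 (BT.node 302 (BT.leaf cJ302) (BT.leaf cJ303)) (BT.leaf cJ304)) (BT.node 306 (BT.node 305 (BT.leaf cJ305) (BT.leaf cJ306)) (BT.leaf cJ307))) (BT.node 310 (BT.node 309 (BT.node 308 (BT.leaf cJ308) (BT.leaf cJ309)) (BT.leaf cJ310)) (BT.node 311 (BT.leaf cJ311) (BT.leaf cJ312)))) (BT.node 318 (BT.node 315 (BT.node 314 (BT.node 313 (BT.leaf cJ313) (BT.leaf cJ314)) (BT.leaf cJ315)) (BT.node 317 (BT.node 316 (BT.leaf cJ316) (BT.leaf cJ317)) (BT.leaf cJ318))) (BT.node 321 (BT.node 320 (BT.node 319 (BT.leaf cJ319) (BT.leaf cJ320)) (BT.leaf cJ321)) (BT.node 322 (BT.leaf cJ322) (BT.leaf cJ323))))) (BT.node 334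 (BT.node 329 (BT.node 326 (BT.node 325 (BT.node 324 (BT.leaf cJ324) (BT.leaf cJ325)) (BT.leaf cJ326)) (BT.node 328 (BT.node 327 (BT.leaf cJ327) (BT.leaf cJ328)) (BT.leaf cJ329))) (BT.node 332 (BT.node 331 (BT.node 330 (BT.leaf cJ330) (BT.leaf cJ331)) (BT.leaf cJ332)) (BT.node 333 (BT.leaf cJ333) (BT.leaf cJ334)))) (BT.node 339 (BT.node 337 (BT.node 336 (BT.node 335 (BT.leaf cJ335) (BT.leaf cJ336)) (BT.leaf cJ337)) (BT.node 338 (BT.leaf cJ338) (BT.leaf cJ339))) (BT.node 342 (BT.node 341 (BT.node 340 (BT.leaf cJ340) (BT.leaf cJ341)) (BT.leaf cJ342)) (BT.node 343 (BT.leaf cJ343) (BT.leaf cJ344))))))))) (BT.node 517 (BT.node 431 (BT.node 388 (BT.node 366 (BT.node 355 (BT.node 350 (BT.node 347 (BT.node 346 (BT.node 345 (BT.leaf cJ345) (BT.leaf cJ346)) (BT.leaf cJ347)) (BT.node 349 (BT.node 348 (BT.leaf cJ348) (BT.leaf cJ349)) (BT.leaf cJ350))) (BT.node 353 (BT.node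 352 (BT.node 351 (BT.leaf cJ351) (BT.leaf cJ352)) (BT.leaf cJ353)) (BT.node 354 (BT.leaf cJ354) (BT.leaf cJ355)))) (BT.node 361 (BT.node 358 (BT.node 357 (BT.node 356 (BT.leaf cJ356) (BT.leaf cJ357)) (BT.leaf cJ358)) (BT.node 360 (BT.node 359 (BT.leaf cJ359) (BT.leaf cJ360)) (BT.leaf cJ361))) (BT.node 364 (BT.node 363 (BT.node 362 (BT.leaf cJ362) (BT.leaf cJ363)) (BT.leaf cJ364)) (BT.node 365 (BT.leaf cJ365) (BT.leaf cJ366))))) (BT.node 377 (BT.node 372 (BT.node 369 (BT.node 368 (BT.node 367 (BT.leaf cJ367) (BT.leaf cJ368)) (BT.leaf cJ369)) (BT.node 371 (BT.node 370 (BT.leaf cJ370) (BT.leaf cJ371)) (BT.leaf cJ372))) (BT.node 375 (BT.node 374 (BT.node 373 (BT.leaf cJ373) (BT.leaf cJ374)) (BT.leaf cJ375)) (BT.node 376 (BT.leaf cJ376) (BT.leaf cJ377)))) (BT.node 383 (BT.node 380 (BT.node 379 (BT.node 378 (BT.leaf cJ378) (BT.leaf cJ379)) (BT.leaf cJ380)) (BT.node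 382 (BT.node 381 (BT.leaf cJ381) (BT.leaf cJ382)) (BT.leaf cJ383))) (BT.node 386 (BT.node 385 (BT.node 384 (BT.leaf cJ384) (BT.leaf cJ385)) (BT.leaf cJ386)) (BT.node 387 (BT.leaf cJ387) (BT.leaf cJ388)))))) (BT.node 410 (BT.node 399 (BT.node 394 (BT.node 391 (BT.node 390 (BT.node 389 (BT.leaf cJ389) (BT.leaf cJ390)) (BT.leaf cJ391)) (BT.node 393 (BT.node 392 (BT.leaf cJ392) (BT.leaf cJ393)) (BT.leaf cJ394))) (BT.node 397 (BT.node 396 (BT.node 395 (BT.leaf cJ395) (BT.leaf cJ396)) (BT.leaf cJ397)) (BT.node 398 (BT.leaf cJ398) (BT.leaf cJ399)))) (BT.node 405 (BT.node 402 (BT.node 401 (BT.node 400 (BT.leaf cJ400) (BT.leaf cJ401)) (BT.leaf cJ402)) (BT.node 404 (BT.node 403 (BT.leaf cJ403) (BT.leaf cJ404)) (BT.leaf cJ405))) (BT.node 408 (BT.node 407 (BT.node 406 (BT.leaf cJ406) (BT.leaf cJ407)) (BT.leaf cJ408)) (BT.node 409 (BT.leaf cJ409) (BT.leaf cJ410)))))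 (BT.node 421 (BT.node 416 (BT.node 413 (BT.node 412 (BT.node 411 (BT.leaf cJ411) (BT.leaf cJ412)) (BT.leaf cJ413)) (BT.node 415 (BT.node 414 (BT.leaf cJ414) (BT.leaf cJ415)) (BT.leaf cJ416))) (BT.node 419 (BT.node 418 (BT.node 417 (BT.leaf cJ417) (BT.leaf cJ418)) (BT.leaf cJ419)) (BT.node 420 (BT.leaf cJ420) (BT.leaf cJ421)))) (BT.node 426 (BT.node 424 (BT.node 423 (BT.node 422 (BT.leaf cJ422) (BT.leaf cJ423)) (BT.leaf cJ424)) (BT.node 425 (BT.leaf cJ425) (BT.leaf cJ426))) (BT.node 429 (BT.node 428 (BT.node 427 (BT.leaf cJ427) (BT.leaf cJ428)) (BT.leaf cJ429)) (BT.node 430 (BT.leaf cJ430) (BT.leaf cJ431))))))) (BT.node 474 (BT.node 453 (BT.node 442 (BT.node 437 (BT.node 434 (BT.node 433 (BT.node 432 (BT.leaf cJ432) (BT.leaf cJ433)) (BT.leaf cJ434)) (BT.node 436 (BT.node 435 (BT.leaf cJ435) (BT.leaf cJ436)) (BT.leaf cJ437))) (BT.node 440 (BT.node 439 (BT.node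 438 (BT.leaf cJ438) (BT.leaf cJ439)) (BT.leaf cJ440)) (BT.node 441 (BT.leaf cJ441) (BT.leaf cJ442)))) (BT.node 448 (BT.node 445 (BT.node 444 (BT.node 443 (BT.leaf cJ443) (BT.leaf cJ444)) (BT.leaf cJ445)) (BT.node 447 (BT.node 446 (BT.leaf cJ446) (BT.leaf cJ447)) (BT.leaf cJ448))) (BT.node 451 (BT.node 450 (BT.node 449 (BT.leaf cJ449) (BT.leaf cJ450)) (BT.leaf cJ451)) (BT.node 452 (BT.leaf cJ452) (BT.leaf cJ453))))) (BT.node 464 (BT.node 459 (BT.node 456 (BT.node 455 (BT.node 454 (BT.leaf cJ454) (BT.leaf cJ455)) (BT.leaf cJ456)) (BT.node 458 (BT.node 457 (BT.leaf cJ457) (BT.leaf cJ458)) (BT.leaf cJ459))) (BT.node 462 (BT.node 461 (BT.node 460 (BT.leaf cJ460) (BT.leaf cJ461)) (BT.leaf cJ462)) (BT.node 463 (BT.leaf cJ463) (BT.leaf cJ464)))) (BT.node 469 (BT.node 467 (BT.node 466 (BT.node 465 (BT.leaf cJ465) (BT.leaf cJ466)) (BT.leaf cJ467)) (BT.node 468 (BT.leaf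 cJ468) (BT.leaf cJ469))) (BT.node 472 (BT.node 471 (BT.node 470 (BT.leaf cJ470) (BT.leaf cJ471)) (BT.leaf cJ472)) (BT.node 473 (BT.leaf cJ473) (BT.leaf cJ474)))))) (BT.node 496 (BT.node 485 (BT.node 480 (BT.node 477 (BT.node 476 (BT.node 475 (BT.leaf cJ475) (BT.leaf cJ476)) (BT.leaf cJ477)) (BT.node 479 (BT.node 478 (BT.leaf cJ478) (BT.leaf cJ479)) (BT.leaf cJ480))) (BT.node 483 (BT.node 482 (BT.node 481 (BT.leaf cJ481) (BT.leaf cJ482)) (BT.leaf cJ483)) (BT.node 484 (BT.leaf cJ484) (BT.leaf cJ485)))) (BT.node 491 (BT.node 488 (BT.node 487 (BT.node 486 (BT.leaf cJ486) (BT.leaf cJ487)) (BT.leaf cJ488)) (BT.node 490 (BT.node 489 (BT.leaf cJ489) (BT.leaf cJ490)) (BT.leaf cJ491))) (BT.node 494 (BT.node 493 (BT.node 492 (BT.leaf cJ492) (BT.leaf cJ493)) (BT.leaf cJ494)) (BT.node 495 (BT.leaf cJ495) (BT.leaf cJ496))))) (BT.node 507 (BT.node 502 (BT.node 499 (BT.node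 498 (BT.node 497 (BT.leaf cJ497) (BT.leaf cJ498)) (BT.leaf cJ499)) (BT.node 501 (BT.node 500 (BT.leaf cJ500) (BT.leaf cJ501)) (BT.leaf cJ502))) (BT.node 505 (BT.node 504 (BT.node 503 (BT.leaf cJ503) (BT.leaf cJ504)) (BT.leaf cJ505)) (BT.node 506 (BT.leaf cJ506) (BT.leaf cJ507)))) (BT.node 512 (BT.node 510 (BT.node 509 (BT.node 508 (BT.leaf cJ508) (BT.leaf cJ509)) (BT.leaf cJ510)) (BT.node 511 (BT.leaf cJ511) (BT.leaf cJ512))) (BT.node 515 (BT.node 514 (BT.node 513 (BT.leaf cJ513) (BT.leaf cJ514)) (BT.leaf cJ515)) (BT.node 516 (BT.leaf cJ516) (BT.leaf cJ517)))))))) (BT.node 603 (BT.node 560 (BT.node 539 (BT.node 528 (BT.node 523 (BT.node 520 (BT.node 519 (BT.node 518 (BT.leaf cJ518) (BT.leaf cJ519)) (BT.leaf cJ520)) (BT.node 522 (BT.node 521 (BT.leaf cJ521) (BT.leaf cJ522)) (BT.leaf cJ523))) (BT.node 526 (BT.node 525 (BT.node 524 (BT.leaf cJ524) (BT.leaf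 cJ525)) (BT.leaf cJ526)) (BT.node 527 (BT.leaf cJ527) (BT.leaf cJ528)))) (BT.node 534 (BT.node 531 (BT.node 530 (BT.node 529 (BT.leaf cJ529) (BT.leaf cJ530)) (BT.leaf cJ531)) (BT.node 533 (BT.node 532 (BT.leaf cJ532) (BT.leaf cJ533)) (BT.leaf cJ534))) (BT.node 537 (BT.node 536 (BT.node 535 (BT.leaf cJ535) (BT.leaf cJ536)) (BT.leaf cJ537)) (BT.node 538 (BT.leaf cJ538) (BT.leaf cJ539))))) (BT.node 550 (BT.node 545 (BT.node 542 (BT.node 541 (BT.node 540 (BT.leaf cJ540) (BT.leaf cJ541)) (BT.leaf cJ542)) (BT.node 544 (BT.node 543 (BT.leaf cJ543) (BT.leaf cJ544)) (BT.leaf cJ545))) (BT.node 548 (BT.node 547 (BT.node 546 (BT.leaf cJ546) (BT.leaf cJ547)) (BT.leaf cJ548)) (BT.node 549 (BT.leaf cJ549) (BT.leaf cJ550)))) (BT.node 555 (BT.node 553 (BT.node 552 (BT.node 551 (BT.leaf cJ551) (BT.leaf cJ552)) (BT.leaf cJ553)) (BT.node 554 (BT.leaf cJ554) (BT.leaf cJ555)))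 (BT.node 558 (BT.node 557 (BT.node 556 (BT.leaf cJ556) (BT.leaf cJ557)) (BT.leaf cJ558)) (BT.node 559 (BT.leaf cJ559) (BT.leaf cJ560)))))) (BT.node 582 (BT.node 571 (BT.node 566 (BT.node 563 (BT.node 562 (BT.node 561 (BT.leaf cJ561) (BT.leaf cJ562)) (BT.leaf cJ563)) (BT.node 565 (BT.node 564 (BT.leaf cJ564) (BT.leaf cJ565)) (BT.leaf cJ566))) (BT.node 569 (BT.node 568 (BT.node 567 (BT.leaf cJ567) (BT.leaf cJ568)) (BT.leaf cJ569)) (BT.node 570 (BT.leaf cJ570) (BT.leaf cJ571)))) (BT.node 577 (BT.node 574 (BT.node 573 (BT.node 572 (BT.leaf cJ572) (BT.leaf cJ573)) (BT.leaf cJ574)) (BT.node 576 (BT.node 575 (BT.leaf cJ575) (BT.leaf cJ576)) (BT.leaf cJ577))) (BT.node 580 (BT.node 579 (BT.node 578 (BT.leaf cJ578) (BT.leaf cJ579)) (BT.leaf cJ580)) (BT.node 581 (BT.leaf cJ581) (BT.leaf cJ582))))) (BT.node 593 (BT.node 588 (BT.node 585 (BT.node 584 (BT.node 583 (BT.leaf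 cJ583) (BT.leaf cJ584)) (BT.leaf cJ585)) (BT.node 587 (BT.node 586 (BT.leaf cJ586) (BT.leaf cJ587)) (BT.leaf cJ588))) (BT.node 591 (BT.node 590 (BT.node 589 (BT.leaf cJ589) (BT.leaf cJ590)) (BT.leaf cJ591)) (BT.node 592 (BT.leaf cJ592) (BT.leaf cJ593)))) (BT.node 598 (BT.node 596 (BT.node 595 (BT.node 594 (BT.leaf cJ594) (BT.leaf cJ595)) (BT.leaf cJ596)) (BT.node 597 (BT.leaf cJ597) (BT.leaf cJ598))) (BT.node 601 (BT.node 600 (BT.node 599 (BT.leaf cJ599) (BT.leaf cJ600)) (BT.leaf cJ601)) (BT.node 602 (BT.leaf cJ602) (BT.leaf cJ603))))))) (BT.node 646 (BT.node 625 (BT.node 614 (BT.node 609 (BT.node 606 (BT.node 605 (BT.node 604 (BT.leaf cJ604) (BT.leaf cJ605)) (BT.leaf cJ606)) (BT.node 608 (BT.node 607 (BT.leaf cJ607) (BT.leaf cJ608)) (BT.leaf cJ609))) (BT.node 612 (BT.node 611 (BT.node 610 (BT.leaf cJ610) (BT.leaf cJ611)) (BT.leaf cJ612)) (BT.node 613 (BT.leaf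 cJ613) (BT.leaf cJ614)))) (BT.node 620 (BT.node 617 (BT.node 616 (BT.node 615 (BT.leaf cJ615) (BT.leaf cJ616)) (BT.leaf cJ617)) (BT.node 619 (BT.node 618 (BT.leaf cJ618) (BT.leaf cJ619)) (BT.leaf cJ620))) (BT.node 623 (BT.node 622 (BT.node 621 (BT.leaf cJ621) (BT.leaf cJ622)) (BT.leaf cJ623)) (BT.node 624 (BT.leaf cJ624) (BT.leaf cJ625))))) (BT.node 636 (BT.node 631 (BT.node 628 (BT.node 627 (BT.node 626 (BT.leaf cJ626) (BT.leaf cJ627)) (BT.leaf cJ628)) (BT.node 630 (BT.node 629 (BT.leaf cJ629) (BT.leaf cJ630)) (BT.leaf cJ631))) (BT.node 634 (BT.node 633 (BT.node 632 (BT.leaf cJ632) (BT.leaf cJ633)) (BT.leaf cJ634)) (BT.node 635 (BT.leaf cJ635) (BT.leaf cJ636)))) (BT.node 641 (BT.node 639 (BT.node 638 (BT.node 637 (BT.leaf cJ637) (BT.leaf cJ638)) (BT.leaf cJ639)) (BT.node 640 (BT.leaf cJ640) (BT.leaf cJ641))) (BT.node 644 (BT.node 643 (BT.node 642 (BT.leaf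 cJ642) (BT.leaf cJ643)) (BT.leaf cJ644)) (BT.node 645 (BT.leaf cJ645) (BT.leaf cJ646)))))) (BT.node 668 (BT.node 657 (BT.node 652 (BT.node 649 (BT.node 648 (BT.node 647 (BT.leaf cJ647) (BT.leaf cJ648)) (BT.leaf cJ649)) (BT.node 651 (BT.node 650 (BT.leaf cJ650) (BT.leaf cJ651)) (BT.leaf cJ652))) (BT.node 655 (BT.node 654 (BT.node 653 (BT.leaf cJ653) (BT.leaf cJ654)) (BT.leaf cJ655)) (BT.node 656 (BT.leaf cJ656) (BT.leaf cJ657)))) (BT.node 663 (BT.node 660 (BT.node 659 (BT.node 658 (BT.leaf cJ658) (BT.leaf cJ659)) (BT.leaf cJ660)) (BT.node 662 (BT.node 661 (BT.leaf cJ661) (BT.leaf cJ662)) (BT.leaf cJ663))) (BT.node 666 (BT.node 665 (BT.node 664 (BT.leaf cJ664) (BT.leaf cJ665)) (BT.leaf cJ666)) (BT.node 667 (BT.leaf cJ667) (BT.leaf cJ668))))) (BT.node 679 (BT.node 674 (BT.node 671 (BT.node 670 (BT.node 669 (BT.leaf cJ669) (BT.leaf cJ670)) (BT.leaf cJ671))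 (BT.node 673 (BT.node 672 (BT.leaf cJ672) (BT.leaf cJ673)) (BT.leaf cJ674))) (BT.node 677 (BT.node 676 (BT.node 675 (BT.leaf cJ675) (BT.leaf cJ676)) (BT.leaf cJ677)) (BT.node 678 (BT.leaf cJ678) (BT.leaf cJ679)))) (BT.node 684 (BT.node 682 (BT.node 681 (BT.node 680 (BT.leaf cJ680) (BT.leaf cJ681)) (BT.leaf cJ682)) (BT.node 683 (BT.leaf cJ683) (BT.leaf cJ684))) (BT.node 687 (BT.node 686 (BT.node 685 (BT.leaf cJ685) (BT.leaf cJ686)) (BT.leaf cJ687)) (BT.node 688 (BT.leaf cJ688) (BT.leaf cJ689))))))))))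
/-- parent chunks -/
def parCT : BT ℕ := (BT.node 22 (BT.node 11 (BT.node 5 (BT.node 2 (BT.node 1 (BT.node 0 (BT.leaf cP0) (BT.leaf cP1)) (BT.leaf cP2)) (BT.node 4 (BT.node 3 (BT.leaf cP3) (BT.leaf cP4)) (BT.leaf cP5))) (BT.node 8 (BT.node 7 (BT.node 6 (BT.leaf cP6) (BT.leaf cP7)) (BT.leaf cP8)) (BT.node 10 (BT.node 9 (BT.leaf cP9) (BT.leaf cP10)) (BT.leaf cP11)))) (BT.node 17 (BT.node 14 (BT.node 13 (BT.node 12 (BT.leaf cP12) (BT.leaf cP13)) (BT.leaf cP14)) (BT.node 16 (BT.node 15 (BT.leaf cP15) (BT.leaf cP16)) (BT.leaf cP17))) (BT.node 20 (BT.node 19 (BT.node 18 (BT.leaf cP18) (BT.leaf cP19)) (BT.leaf cP20)) (BT.node 21 (BT.leaf cP21) (BT.leaf cP22))))) (BT.node 34 (BT.node 28 (BT.node 25 (BT.node 24 (BT.node 23 (BT.leaf cP23) (BT.leaf cP24)) (BT.leaf cP25)) (BT.node 27 (BT.node 26 (BT.leaf cP26) (BT.leaf cP27)) (BT.leaf cP28))) (BT.node 31 (BT.node 30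 (BT.node 29 (BT.leaf cP29) (BT.leaf cP30)) (BT.leaf cP31)) (BT.node 33 (BT.node 32 (BT.leaf cP32) (BT.leaf cP33)) (BT.leaf cP34)))) (BT.node 40 (BT.node 37 (BT.node 36 (BT.node 35 (BT.leaf cP35) (BT.leaf cP36)) (BT.leaf cP37)) (BT.node 39 (BT.node 38 (BT.leaf cP38) (BT.leaf cP39)) (BT.leaf cP40))) (BT.node 43 (BT.node 42 (BT.node 41 (BT.leaf cP41) (BT.leaf cP42)) (BT.leaf cP43)) (BT.node 44 (BT.leaf cP44) (BT.leaf cP45))))))
/-- the certificate -/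
def data : Data where
  k := 14
  N := 23260
  W := 33
  MW := 8589934592
  B := 32768
  CH := 512
  NCH := 46
  colE := colET
  JW := 64
  MJ := 18446744073709551616
  A := 1048576
  colJ := colJT
  PW := 25
  MP := 33554432
  parC := parCT
  inv := (BT.node 7 (BT.node 3 (BT.node 1 (BT.node 0 (BT.leaf 1) (BT.leaf 0)) (BT.node 2 (BT.leaf 3) (BT.leaf 2))) (BT.node 5 (BT.node 4 (BT.leaf 5) (BT.leaf 4)) (BT.node 6 (BT.leaf 7) (BT.leaf 6)))) (BT.node 11 (BT.node 9 (BT.node 8 (BT.leaf 9) (BT.leaf 8)) (BT.node 10 (BT.leaf 11) (BT.leaf 10))) (BT.node 13 (BT.node 12 (BT.leaf 13) (BT.leaf 12)) (BT.leaf 14))))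
  rel := relT
  sub := subT
  fuel := 64

end Cfsg.Agent.Lib.Helper21.Co2S.PCo2Data
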