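import Cfsg.Agent.Lib.Helper28.TC2Range
import Cfsg.Agent.Lib.Helper21.Co2S.PCo2Data
set_option autoImplicit false
set_option maxRecDepth 100000
set_option maxHeartbeats 0

namespace Cfsg.Agent.Lib.Helper21.Co2S.PCo2M1
open Cfsg.Agent.Lib.Helper28.TC2Upper Cfsg.Agent.Lib.Helper28.TC2Lower Cfsg.Agent.Lib.Helper28.TC2Range Cfsg.Agent.Lib.Helper21.Co2S.PCo2Data

theorem cnt0 : Data.countFrom data 0 6000 = 2854 := by decide +kernel
theorem cnt1 : Data.countFrom data 6000 6000 = 1070 := by decide +kernel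
theorem cnt2 : Data.countFrom data 12000 6000 = 539 := by decide +kernel
theorem cnt3 : Data.countFrom data 18000 5260 = 137 := by decide +kernel

end Cfsg.Agent.Lib.Helper21.Co2S.PCo2M1
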