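import Cfsg.Agent.Lib.Helper21.Co2S.PCo2Data
set_option autoImplicit false
set_option maxRecDepth 100000
set_option maxHeartbeats 0

namespace Cfsg.Agent.Lib.Helper21.Co2S.PCo2U5
open Cfsg.Agent.Lib.Helper28.TC2Upper Cfsg.Agent.Lib.Helper21.Co2S.PCo2Data

theorem chk25 : data.checkRange 20119 1442 = true := by decide +kernel
theorem chk26 : data.checkRange 21561 1564 = true := by decide +kernel
theorem chk27 : data.checkRange 23125 135 = true := by decide +kernel

end Cfsg.Agent.Lib.Helper21.Co2S.PCo2U5
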