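import Cfsg.Agent.Lib.Helper28.TC2Glue
import Cfsg.Agent.Lib.Helper28.TC2Range
import Cfsg.Agent.Lib.Helper21.Co2S.PCo2Link
import Cfsg.Agent.Lib.Helper21.Co2S.PCo2M0
import Cfsg.Agent.Lib.Helper21.Co2S.PCo2M1
import Cfsg.Agent.Lib.Helper21.Co2S.PCo2U0
import Cfsg.Agent.Lib.Helper21.Co2S.PCo2U1
import Cfsg.Agent.Lib.Helper21.Co2S.PCo2U2
import Cfsg.Agent.Lib.Helper21.Co2S.PCo2U3
import Cfsg.Agent.Lib.Helper21.Co2S.PCo2U4
import Cfsg.Agent.Lib.Helper21.Co2S.PCo2U5

set_option autoImplicit false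
set_option maxRecDepth 100000
open Cfsg

namespace Cfsg.Agent.Lib.Helper21.Co2S.PCo2MainU
open Cfsg.Agent.Lib.Helper28.TC2Upper Cfsg.Agent.Lib.Helper28.TC2Lower Cfsg.Agent.Lib.Helper28.TC2Glue Cfsg.Agent.Lib.Helper28.TC2Range
open Cfsg.Agent.Lib.Helper21.Co2S.PCo2Data Cfsg.Agent.Lib.Helper21.Co2S.PCo2Table Cfsg.Agent.Lib.Helper21.Co2S.PCo2Link

theorem hchk : ∀ v, v < data.N → data.checkNode v = true := by
  intro v hv
  have hv' : v < 23260 := hv
  rcases Nat.lt_or_ge v 439 with h0 | h0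
  · exact (data.checkRange_iff 0 439).mp Cfsg.Agent.Lib.Helper21.Co2S.PCo2U0.chk0 v (by omega) (by omega)
  rcases Nat.lt_or_ge v 906 with h1 | h1
  · exact (data.checkRange_iff 439 467).mp Cfsg.Agent.Lib.Helper21.Co2S.PCo2U0.chk1 v (by omega) (by omega)
  rcases Nat.lt_or_ge v 1403 with h2 | h2
  · exact (data.checkRange_iff 906 497).mp Cfsg.Agent.Lib.Helper21.Co2S.PCo2U0.chk2 v (by omega) (by omega)
  rcases Nat.lt_or_ge v 1940 with h3 | h3
  · exact (data.checkRange_iff 1403 537).mp Cfsg.Agent.Lib.Helper21.Co2S.PCo2U0.chk3 v (by omega) (by omega)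
  rcases Nat.lt_or_ge v 2478 with h4 | h4
  · exact (data.checkRange_iff 1940 538).mp Cfsg.Agent.Lib.Helper21.Co2S.PCo2U0.chk4 v (by omega) (by omega)
  rcases Nat.lt_or_ge v 3003 with h5 | h5
  · exact (data.checkRange_iff 2478 525).mp Cfsg.Agent.Lib.Helper21.Co2S.PCo2U1.chk5 v (by omega) (by omega)
  rcases Nat.lt_or_ge v 3549 with h6 | h6
  · exact (data.checkRange_iff 3003 546).mp Cfsg.Agent.Lib.Helper21.Co2S.PCo2U1.chk6 v (by omega) (by omega)
  rcases Nat.lt_or_ge v 4157 with h7 | h7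
  · exact (data.checkRange_iff 3549 608).mp Cfsg.Agent.Lib.Helper21.Co2S.PCo2U1.chk7 v (by omega) (by omega)
  rcases Nat.lt_or_ge v 4836 with h8 | h8
  · exact (data.checkRange_iff 4157 679).mp Cfsg.Agent.Lib.Helper21.Co2S.PCo2U1.chk8 v (by omega) (by omega)
  rcases Nat.lt_or_ge v 5518 with h9 | h9
  · exact (data.checkRange_iff 4836 682).mp Cfsg.Agent.Lib.Helper21.Co2S.PCo2U1.chk9 v (by omega) (by omega)
  rcases Nat.lt_or_ge v 6218 with h10 | h10
  · exact (data.checkRange_iff 5518 700).mp Cfsg.Agent.Lib.Helper21.Co2S.PCo2U2.chk10 v (by omega) (by omega)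
  rcases Nat.lt_or_ge v 6979 with h11 | h11
  · exact (data.checkRange_iff 6218 761).mp Cfsg.Agent.Lib.Helper21.Co2S.PCo2U2.chk11 v (by omega) (by omega)
  rcases Nat.lt_or_ge v 7768 with h12 | h12
  · exact (data.checkRange_iff 6979 789).mp Cfsg.Agent.Lib.Helper21.Co2S.PCo2U2.chk12 v (by omega) (by omega)
  rcases Nat.lt_or_ge v 8615 with h13 | h13
  · exact (data.checkRange_iff 7768 847).mp Cfsg.Agent.Lib.Helper21.Co2S.PCo2U2.chk13 v (by omega) (by omega)
  rcases Nat.lt_or_ge v 9435 with h14 | h14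
  · exact (data.checkRange_iff 8615 820).mp Cfsg.Agent.Lib.Helper21.Co2S.PCo2U2.chk14 v (by omega) (by omega)
  rcases Nat.lt_or_ge v 10359 with h15 | h15
  · exact (data.checkRange_iff 9435 924).mp Cfsg.Agent.Lib.Helper21.Co2S.PCo2U3.chk15 v (by omega) (by omega)
  rcases Nat.lt_or_ge v 11294 with h16 | h16
  · exact (data.checkRange_iff 10359 935).mp Cfsg.Agent.Lib.Helper21.Co2S.PCo2U3.chk16 v (by omega) (by omega)
  rcases Nat.lt_or_ge v 12259 with h17 | h17
  · exact (data.checkRange_iff 11294 965).mp Cfsg.Agent.Lib.Helper21.Co2S.PCo2U3.chk17 v (by omega) (by omega)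
  rcases Nat.lt_or_ge v 13224 with h18 | h18
  · exact (data.checkRange_iff 12259 965).mp Cfsg.Agent.Lib.Helper21.Co2S.PCo2U3.chk18 v (by omega) (by omega)
  rcases Nat.lt_or_ge v 14251 with h19 | h19
  · exact (data.checkRange_iff 13224 1027).mp Cfsg.Agent.Lib.Helper21.Co2S.PCo2U3.chk19 v (by omega) (by omega)
  rcases Nat.lt_or_ge v 15399 with h20 | h20
  · exact (data.checkRange_iff 14251 1148).mp Cfsg.Agent.Lib.Helper21.Co2S.PCo2U4.chk20 v (by omega) (by omega)
  rcases Nat.lt_or_ge v 16313 with h21 | h21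
  · exact (data.checkRange_iff 15399 914).mp Cfsg.Agent.Lib.Helper21.Co2S.PCo2U4.chk21 v (by omega) (by omega)
  rcases Nat.lt_or_ge v 17433 with h22 | h22
  · exact (data.checkRange_iff 16313 1120).mp Cfsg.Agent.Lib.Helper21.Co2S.PCo2U4.chk22 v (by omega) (by omega)
  rcases Nat.lt_or_ge v 18762 with h23 | h23
  · exact (data.checkRange_iff 17433 1329).mp Cfsg.Agent.Lib.Helper21.Co2S.PCo2U4.chk23 v (by omega) (by omega)
  rcases Nat.lt_or_ge v 20119 with h24 | h24
  · exact (data.checkRange_iff 18762 1357).mp Cfsg.Agent.Lib.Helper21.Co2S.PCo2U4.chk24 v (by omega) (by omega)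
  rcases Nat.lt_or_ge v 21561 with h25 | h25
  · exact (data.checkRange_iff 20119 1442).mp Cfsg.Agent.Lib.Helper21.Co2S.PCo2U5.chk25 v (by omega) (by omega)
  rcases Nat.lt_or_ge v 23125 with h26 | h26
  · exact (data.checkRange_iff 21561 1564).mp Cfsg.Agent.Lib.Helper21.Co2S.PCo2U5.chk26 v (by omega) (by omega)
  exact (data.checkRange_iff 23125 135).mp Cfsg.Agent.Lib.Helper21.Co2S.PCo2U5.chk27 v (by omega) (by omega)

theorem hrows : ∀ v, v < data.N → Data.rowOK data v = true := by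
  intro v hv
  have hv' : v < 23260 := hv
  rcases Nat.lt_or_ge v 6000 with h0 | h0
  · exact (Data.finalRange_iff data 0 6000).mp Cfsg.Agent.Lib.Helper21.Co2S.PCo2M0.fin0 v (by omega) (by omega)
  rcases Nat.lt_or_ge v 12000 with h1 | h1
  · exact (Data.finalRange_iff data 6000 6000).mp Cfsg.Agent.Lib.Helper21.Co2S.PCo2M0.fin1 v (by omega) (by omega)
  rcases Nat.lt_or_ge v 18000 with h2 | h2
  · exact (Data.finalRange_iff data 12000 6000).mp Cfsg.Agent.Lib.Helper21.Co2S.PCo2M0.fin2 v (by omega) (by omega)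
  exact (Data.finalRange_iff data 18000 5260).mp Cfsg.Agent.Lib.Helper21.Co2S.PCo2M0.fin3 v (by omega) (by omega)

theorem hfin : data.finalOK = true := Data.finalOK_of_rows data Cfsg.Agent.Lib.Helper21.Co2S.PCo2M0.hlive0 (by decide) hrows

theorem pc0 : Data.countFrom data 0 6000 = 2854 := Cfsg.Agent.Lib.Helper21.Co2S.PCo2M1.cnt0
theorem pc1 : Data.countFrom data 0 12000 = 3924 := Data.countFrom_step data pc0 Cfsg.Agent.Lib.Helper21.Co2S.PCo2M1.cnt1 (by norm_num) (by norm_num)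
theorem pc2 : Data.countFrom data 0 18000 = 4463 := Data.countFrom_step data pc1 Cfsg.Agent.Lib.Helper21.Co2S.PCo2M1.cnt2 (by norm_num) (by norm_num)
theorem pc3 : Data.countFrom data 0 23260 = 4600 := Data.countFrom_step data pc2 Cfsg.Agent.Lib.Helper21.Co2S.PCo2M1.cnt3 (by norm_num) (by norm_num)

theorem hcount : data.countLive = 4600 := by
  rw [Data.countLive_eq]
  exact pc3

/-- the number of cosets is at most `4600` -/
theorem mainU : Finite (PresentedGroup rels ⧸ (Subgroup.closure S).map (PresentedGroup.mk rels)) ∧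
    Nat.card (PresentedGroup rels ⧸ (Subgroup.closure S).map (PresentedGroup.mk rels)) ≤ 4600 := by
  have h := upper link hchk hfin
  rw [hcount] at h
  exact h

end Cfsg.Agent.Lib.Helper21.Co2S.PCo2MainU
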