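import Cfsg.Agent.Lib.Helper21.Co2S.PModel
import Cfsg.Agent.Lib.Helper21.Co2S.PCo2MainU
import Cfsg.Agent.Lib.Helper3.Cover.U62Iso
import Cfsg.Agent.Lib.Helper28.TC2Tower
import Cfsg.Agent.Lib.Helper28.TC2Tower2

set_option autoImplicit false
set_option maxRecDepth 100000

/-!
# The presented group `PCo2` is the Conway group `Co₂`

The subgroup `⟨a, b, c, t, d⟩` of the presented group is a quotient of helper3's presentation of `PSU₆(2)` and has
at most 4600 cosets, so the presented group has order at most `|Co₂|`; it maps onto the group `P ≅ Co₂`.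
-/

namespace Cfsg.Agent.Lib.Helper21.Co2S

open Cfsg
open Cfsg.Agent.Lib.Helper21.Co2
open Cfsg.Agent.Lib.Helper3.Cover Cfsg.Agent.Lib.Helper3.Cover.U62Iso
open Cfsg.Agent.Lib.Helper28.TC2Upper Cfsg.Agent.Lib.Helper28.TC2Lower Cfsg.Agent.Lib.Helper28.TC2Glue
open Cfsg.Agent.Lib.Helper28.TC2Tower Cfsg.Agent.Lib.Helper28.TC2Tower2

/-- the generators of `PSU₆(2)` as generators of `Co₂` -/
def up : EU6Def.Gen → ECo2Def.Gen
  | .a => .a
  | .b => .b
  | .c => .c
  | .t => .t
  | .d => .d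

theorem upP : ∀ L ∈ EU6Def.R, upWord up L ∈ ECo2Def.R := by decide +kernel

theorem hSP : ∀ s ∈ PCo2Link.S, ∃ b, s = FreeGroup.of (up b) := by
  intro s hs
  simp only [PCo2Link.S, Set.mem_insert_iff, Set.mem_singleton_iff] at hs
  rcases hs with rfl | rfl | rfl | rfl | rfl
  exacts [⟨.a, rfl⟩, ⟨.b, rfl⟩, ⟨.c, rfl⟩, ⟨.t, rfl⟩, ⟨.d, rfl⟩]

theorem cardP' : Finite (PresentedGroup PCo2Link.rels) ∧
    Nat.card (PresentedGroup PCo2Link.rels) ≤ 4600 * 9196830720 := by
  haveI : Finite (PresentedGroup (relSet EU6Def.R)) := cardPU6.1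
  have hrel := hrel_of_words PCo2Link.rels (relSet EU6Def.R) up PCo2Link.relWords EU6Def.R
    PCo2Link.link.hrels (fun _ => Iff.rfl) upP
  obtain ⟨hfin, hle⟩ := card_le_of_subpres PCo2Link.rels (relSet EU6Def.R) up hrel PCo2Link.S hSP
  obtain ⟨hq, hqle⟩ := PCo2MainU.mainU
  exact card_le_of_quot _ hfin hq hqle (le_trans hle (le_of_eq cardPU6.2))

theorem cardP : Finite DCo2.P ∧ Nat.card DCo2.P ≤ NCo2 := cardP'

instance finite_PCo2 : Finite DCo2.P := cardP.1

theorem fP_bijective : Function.Bijective fP := by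
  haveI := finite_P
  apply fP_surjective.bijective_of_nat_card_le
  rw [card_P]
  exact cardP.2

/-- the presented group is the group on 4600 points -/
noncomputable def isoP : DCo2.P ≃* ↥Co2.P := MulEquiv.ofBijective fP fP_bijective

theorem isoP_apply (g : DCo2.P) : isoP g = fP g := rfl

theorem card_PCo2 : Nat.card DCo2.P = NCo2 := by
  rw [Nat.card_congr isoP.toEquiv, card_P]

/-- the presented group is the Conway group `Co₂` of the definitions -/
noncomputable def isoCo2 : DCo2.P ≃* ↥Spor.Co2 := isoP.trans co2Iso.symm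

theorem co2Iso_isoCo2 (g : DCo2.P) : co2Iso (isoCo2 g) = fP g := by
  show co2Iso (co2Iso.symm (isoP g)) = _
  rw [MulEquiv.apply_symm_apply]
  rfl

end Cfsg.Agent.Lib.Helper21.Co2S
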