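import Mathlib
import Cfsg.Prelude.Def_KGroupFacts
import Cfsg.Agent.Lib.Helper3.Schur.Basic

set_option autoImplicit false

/-!
# Commutators of lifts of commuting elements of a perfect subgroup with small multiplier

Let `π : E → G` be a surjective homomorphism of a finite group `E` with central kernel and `M` a perfect subgroup of
`G` all of whose finite stem extensions have a kernel that is a homomorphic image of `A`.  If `g₁, g₂ ∈ E` have
commuting images in `M`, then `⁅g₁, g₂⁆` lies in the kernel of a stem extension of `M`, so `⁅g₁, g₂⁆ ^ n = 1` as soon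
as `a ^ n = 1` for all `a ∈ A`.
-/

namespace Cfsg.Agent.Lib.Helper21.Co2S

open Subgroup
open scoped commutatorElement

theorem comm_pow_eq_one_of_mult {E G : Type} [Group E] [Group G] [Finite E] (π : E →* G)
    (hs : Function.Surjective π) (hc : π.ker ≤ center E) (M : Subgroup G) (hperf : ⁅M, M⁆ = M)
    {A : Type} [CommGroup A] (hM : Cfsg.HasSchurMultiplier ↥M A) (n : ℕ) (hA : ∀ a : A, a ^ n = 1)
    (g₁ g₂ : E) (h₁ : π g₁ ∈ M) (h₂ : π g₂ ∈ M) (hcomm : π g₁ * π g₂ = π g₂ * π g₁) :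
    ⁅g₁, g₂⁆ ^ n = 1 := by
  set V : Subgroup E := M.comap π with hV
  set K : Subgroup E := ⁅V, V⁆ with hK
  have hVmap : V.map π = M := Subgroup.map_comap_eq_self_of_surjective hs M
  have hKmap : K.map π = M := by
    rw [hK, Subgroup.map_commutator, hVmap, hperf]
  have hVK : V ≤ K ⊔ π.ker := by
    intro v hv
    have : π v ∈ K.map π := by rw [hKmap]; exact hv
    obtain ⟨k, hk, hkv⟩ := this
    have h1 : k⁻¹ * v ∈ π.ker := by
      rw [MonoidHom.mem_ker, map_mul, map_inv, hkv, inv_mul_cancel]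
    have : v = k * (k⁻¹ * v) := by group
    rw [this]
    exact Subgroup.mul_mem_sup hk h1
  have hKperf : K ≤ ⁅K, K⁆ := by
    have h1 : ⁅V, V⁆ ≤ ⁅K ⊔ π.ker, K ⊔ π.ker⁆ := Subgroup.commutator_mono hVK hVK
    exact h1.trans (Cfsg.Agent.Lib.Helper3.SchurM.comm_sup_central_le K π.ker hc)
  -- the restriction of `π` to `K`
  let σK : ↥K →* ↥M := (π.comp K.subtype).codRestrict M (fun k => by
    have : π (k : E) ∈ K.map π := ⟨k, k.2, rfl⟩
    rw [hKmap] at this
    exact this)
  have hσK : ∀ k : ↥K, ((σK k : ↥M) : G) = π (k : E) := fun k => rfl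
  have hstem : Cfsg.IsStemExtension σK := by
    refine ⟨?_, ?_, ?_⟩
    · intro h
      have : (h : G) ∈ K.map π := by rw [hKmap]; exact h.2
      obtain ⟨k, hk, hkh⟩ := this
      exact ⟨⟨k, hk⟩, Subtype.ext hkh⟩
    · intro k hk
      have h1 : (k : E) ∈ π.ker := by
        rw [MonoidHom.mem_ker] at hk ⊢
        have := congrArg (fun x : ↥M => (x : G)) hk
        simpa [hσK] using this
      have h2 := hc h1
      rw [Subgroup.mem_center_iff] at h2 ⊢
      intro y
      exact Subtype.ext (h2 (y : E))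
    · intro k _
      rw [commutator_def]
      have h1 : (k : E) ∈ ⁅K, K⁆ := hKperf k.2
      rw [← K.map_subtype_commutator] at h1
      obtain ⟨k', hk', hkk⟩ := h1
      have : k' = k := Subtype.ext hkk
      rw [← this]
      rw [commutator_def] at hk'
      exact hk'
  obtain ⟨ρ, hρ⟩ := hM.2 ↥K σK hstem
  -- the commutator
  have hg1 : g₁ ∈ V := h₁
  have hg2 : g₂ ∈ V := h₂
  have hcK : ⁅g₁, g₂⁆ ∈ K := Subgroup.commutator_mem_commutator hg1 hg2
  have hker : (⟨⁅g₁, g₂⁆, hcK⟩ : ↥K) ∈ σK.ker := by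
    rw [MonoidHom.mem_ker]
    apply Subtype.ext
    rw [hσK]
    show π ⁅g₁, g₂⁆ = 1
    rw [map_commutatorElement, commutatorElement_eq_one_iff_mul_comm]
    exact hcomm
  obtain ⟨a, ha⟩ := hρ ⟨⟨⁅g₁, g₂⁆, hcK⟩, hker⟩
  have h3 : (⟨⟨⁅g₁, g₂⁆, hcK⟩, hker⟩ : ↥σK.ker) ^ n = 1 := by
    rw [← ha, ← map_pow, hA, map_one]
  have h4 := congrArg (fun x : ↥σK.ker => ((x : ↥K) : E)) h3
  simpa using h4

end Cfsg.Agent.Lib.Helper21.Co2S
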