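import Cfsg.Agent.Lib.Helper21.Co2S.Keys
import Cfsg.Agent.Lib.Helper21.Co2S.PIso
import Cfsg.Agent.Lib.Helper21.Co2S.StemComm
import Cfsg.Agent.Lib.Helper21.Co2S.McLMem
import Cfsg.Agent.Lib.Helper16.McLM.McLMain
import Cfsg.Agent.Lib.Helper3.Cover.KillKer
import Cfsg.Agent.Lib.Helper3.Cover.Univ
import Cfsg.Agent.Lib.Helper21.Co2S.ECo2MainU
import Cfsg.Agent.Lib.Helper28.SchurFoxA
import Cfsg.Agent.Lib.Helper28.TC2Tower2

set_option autoImplicit false
set_option maxRecDepth 100000

/-!
# The kernel of the covering presentation of `PSU₆(2)` dies in the covering presentation of `Co₂`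

The covering presentation `EU6` of `PSU₆(2) = ⟨a, b, c, t, d⟩` maps to the covering presentation `ECo2` of `Co₂`.
* Conjugation with the generator `x` (the outer involution of `PSU₆(2):2`) inverts the element of order 3 of the
  kernel and maps the first involution `z_b` of the kernel to `z_b z_c`: the images of the element of order 3 and of
  `z_c` in `ECo2` are trivial.
* Two commuting elements `g₁, g₂` of order 4 of `PSU₆(2)` fixing the vector `(-5, -1^23)`, i.e. lying in the
  McLaughlin group, have commutator `z_b z_c` in `EU6`; the multiplier of the McLaughlin group has order 3, so the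
  image of `z_b` in `ECo2` has order dividing 3 and 2.
-/

namespace Cfsg.Agent.Lib.Helper21.Co2S

open Cfsg Cfsg.Agent.Lib.Helper3 Cfsg.Agent.Lib.Helper3.Cover Cfsg.Agent.Lib.Helper3.Cover.U62Iso
open Cfsg.Agent.Lib.Helper3.Cover.U62Bar Cfsg.Agent.Lib.Helper3.Cover.U62Main
open Cfsg.Agent.Lib.Helper3.Cover.KillKer
open Cfsg.Agent.Lib.Helper28.TC2Upper Cfsg.Agent.Lib.Helper28.TC2Lower Cfsg.Agent.Lib.Helper28.TC2Glue
open Cfsg.Agent.Lib.Helper28.TC2Tower Cfsg.Agent.Lib.Helper28.TC2Tower2 Cfsg.Agent.Lib.Helper28.TC2Subst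
open Cfsg.Agent.Lib.Helper10.SX
open Cfsg.Agent.Lib.Helper21.Co2
open scoped commutatorElement

/-- the element of the covering group of `Co₂` given by a word -/
noncomputable abbrev cmk (L : List (ECo2Def.Gen × Bool)) : DCo2.E :=
  PresentedGroup.mk DCo2.relsE (FreeGroup.mk L)

theorem upE : ∀ L ∈ EU6Def.relWords, upWord up L ∈ ECo2Def.relWords := by decide +kernel

theorem hrelE : ∀ r ∈ DU6.relsE, FreeGroup.map up r ∈ DCo2.relsE :=
  hrel_of_words DCo2.relsE DU6.relsE up ECo2Def.relWords EU6Def.relWords (fun _ => Iff.rfl)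
    (fun _ => Iff.rfl) upE

theorem lift_up_eq : FreeGroup.lift (fun b => (PresentedGroup.of (up b) : DCo2.E)) =
    (PresentedGroup.mk DCo2.relsE).comp (FreeGroup.map up) := by
  ext b
  simp [PresentedGroup.of]

/-- the homomorphism from the covering group of `PSU₆(2)` to the covering group of `Co₂` -/
noncomputable def psiE : DU6.E →* DCo2.E :=
  PresentedGroup.toGroup (f := fun b => (PresentedGroup.of (up b) : DCo2.E)) (by
    intro r hr
    rw [lift_up_eq]
    exact PresentedGroup.one_of_mem (hrelE r hr))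

theorem psiE_emk (L : List (EU6Def.Gen × Bool)) : psiE (emk L) = cmk (upWord up L) := by
  show FreeGroup.lift (fun b => (PresentedGroup.of (up b) : DCo2.E)) (FreeGroup.mk L) = _
  rw [lift_up_eq]
  rfl

/-! ### conjugation with the outer involution -/

/-- the images of the generators under conjugation with `x` -/
def subx (g : EU6Def.Gen) : List (ECo2Def.Gen × Bool) := upWord up (sub6 g)

theorem upWord_append (L M : List (EU6Def.Gen × Bool)) :
    upWord up (L ++ M) = upWord up L ++ upWord up M := List.map_append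

theorem upWord_invRev (L : List (EU6Def.Gen × Bool)) :
    upWord up (FreeGroup.invRev L) = FreeGroup.invRev (upWord up L) := by
  unfold upWord FreeGroup.invRev
  rw [List.map_reverse, List.map_map, List.map_map]
  rfl

theorem substW_up (L : List (EU6Def.Gen × Bool)) : substW subx L = upWord up (substW sub6 L) := by
  induction L with
  | nil => rfl
  | cons p L ih =>
    obtain ⟨g, b⟩ := p
    cases b
    · show FreeGroup.invRev (subx g) ++ substW subx L = upWord up (FreeGroup.invRev (sub6 g) ++ substW sub6 L)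
      rw [upWord_append, upWord_invRev, ih]
      rfl
    · show subx g ++ substW subx L = upWord up (sub6 g ++ substW sub6 L)
      rw [upWord_append, ih]
      rfl

theorem hxx : [(ECo2Def.Gen.x, true), (ECo2Def.Gen.x, true)] ∈ DCo2.R := by decide +kernel

theorem hconjx : ∀ g : EU6Def.Gen,
    ((ECo2Def.Gen.x, true) :: (up g, true) :: (ECo2Def.Gen.x, true) :: FreeGroup.invRev (subx g)) ∈ DCo2.R := by
  intro g; cases g <;> decide +kernel

theorem hitemsA : ∀ p ∈ itemsA, upWord up p.1 ∈ DCo2.R := by decide +kernel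
theorem hitemsB : ∀ p ∈ itemsB, upWord up p.1 ∈ DCo2.R := by decide +kernel
theorem hexpA : ∀ g : EU6Def.Gen, expL g (combWord itemsA) = 0 := by intro g; cases g <;> decide +kernel
theorem hexpB : ∀ g : EU6Def.Gen, expL g (combWord itemsB) = 0 := by intro g; cases g <;> decide +kernel

/-- the image of the element of order 3 of the kernel is trivial -/
theorem kill_za : psiE (emk za) = 1 := by
  have h := mk_subst_eq DCo2 up .x subx hxx hconjx itemsA hitemsA hexpA
  rw [substW_up] at h
  have h1 : psiE (emk WA) = psiE (emk (substW sub6 WA)) := by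
    rw [psiE_emk, psiE_emk]
    exact h
  rw [emk_WA, emk_WA', map_pow] at h1
  have h2 : psiE (emk za) ^ 3 = 1 := by rw [← map_pow, za_pow, map_one]
  have h3 : psiE (emk za) ^ 2 = psiE (emk za) * psiE (emk za) := pow_two _
  rw [h3] at h1
  exact (mul_eq_left.mp h1.symm)

/-- the image of the second involution of the kernel is trivial -/
theorem kill_zc : psiE (emk zc) = 1 := by
  have h := mk_subst_eq DCo2 up .x subx hxx hconjx itemsB hitemsB hexpB
  rw [substW_up] at h
  have h1 : psiE (emk WB) = psiE (emk (substW sub6 WB)) := by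
    rw [psiE_emk, psiE_emk]
    exact h
  rw [emk_WB, emk_WB', map_mul] at h1
  exact (mul_eq_left.mp h1.symm)

/-! ### the McLaughlin group -/

/-- the projection of the covering group onto the Conway group -/
noncomputable abbrev piCo2 : DCo2.E →* ↥Spor.Co2 := DCo2.projTo isoCo2

theorem co2Iso_pi (L : List (ECo2Def.Gen × Bool)) : co2Iso (piCo2 (cmk L)) = gw (wordOf L) := by
  show co2Iso (isoCo2 (DCo2.proj (cmk L))) = _
  rw [DCo2.proj_mk, co2Iso_isoCo2, fP_mk]

theorem psi_pi (L : List (ECo2Def.Gen × Bool)) (b : ℕ) :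
    (psi (piCo2 (cmk L)) (fpt b)).val = evW (wordOf L) (fpt b).val := by
  rw [← co2Iso_apply, co2Iso_pi]
  exact pw_apply_val (wordOf L) (fpt b)

/-- the McLaughlin group as a subgroup of the Conway group -/
noncomputable abbrev MM : Subgroup ↥Spor.Co2 := Spor.McL.subgroupOf Spor.Co2

theorem McL_le : Spor.McL ≤ Spor.Co2 := by
  intro g hg
  unfold Spor.McL Spor.Co3 at hg
  unfold Spor.Co2
  exact ⟨hg.1.1, hg.2⟩

theorem schur_MM : Cfsg.HasSchurMultiplier ↥MM (Multiplicative (ZMod 3)) :=
  hasSchurMultiplier_transport (Subgroup.subgroupOfEquivOfLe McL_le).symm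
    Cfsg.Agent.Lib.Helper16.McLM.McLMain.schur_McL

theorem perfect_McL : commutator ↥Spor.McL = ⊤ := by
  obtain ⟨φ⟩ := Cfsg.Agent.Lib.Helper16.McLM.McLMain.iso.1
  have hs : Function.Surjective (Cfsg.Agent.Lib.Helper16.McLM.McLMain.D3.projTo φ) :=
    (Cfsg.Agent.Lib.Helper16.McLM.McLMain.D3.isStem_projTo φ).1
  have h := Subgroup.map_commutator (⊤ : Subgroup Cfsg.Agent.Lib.Helper16.McLM.McLMain.D3.E) ⊤
    (Cfsg.Agent.Lib.Helper16.McLM.McLMain.D3.projTo φ)
  rw [← commutator_def, Cfsg.Agent.Lib.Helper16.McLM.McLMain.D3.commutator_eq_top,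
    ← MonoidHom.range_eq_map, MonoidHom.range_eq_top.mpr hs] at h
  rw [commutator_def]
  exact h.symm

theorem perfect_MM : ⁅MM, MM⁆ = MM := by
  have e := (Subgroup.subgroupOfEquivOfLe McL_le)
  -- `MM` is the image of `⊤ : Subgroup ↥MM` under the inclusion
  have h1 : (⊤ : Subgroup ↥MM).map MM.subtype = MM := by
    rw [← MonoidHom.range_eq_map, Subgroup.range_subtype]
  have h2 : commutator ↥MM = ⊤ := by
    have h3 := Subgroup.map_commutator (⊤ : Subgroup ↥Spor.McL) ⊤ e.symm.toMonoidHom
    rw [← commutator_def, perfect_McL, ← MonoidHom.range_eq_map,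
      MonoidHom.range_eq_top.mpr e.symm.surjective] at h3
    rw [commutator_def]
    exact h3.symm
  rw [← h1, ← Subgroup.map_commutator, ← commutator_def, h2]

set_option maxRecDepth 1000000 in
theorem g1_ok : combOK (evW (wordOf (upWord up g1))) = true := by decide +kernel

set_option maxRecDepth 1000000 in
theorem g2_ok : combOK (evW (wordOf (upWord up g2))) = true := by decide +kernel

set_option maxRecDepth 1000000 in
theorem g12_comm : sigEq (wordOf (upWord up g1) ++ wordOf (upWord up g2))
    (wordOf (upWord up g2) ++ wordOf (upWord up g1)) = true := by decide +kernel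

theorem pi_mem_MM (L : List (ECo2Def.Gen × Bool)) (h : combOK (evW (wordOf L)) = true) :
    piCo2 (cmk L) ∈ MM := by
  rw [Subgroup.mem_subgroupOf]
  apply mem_McL (piCo2 (cmk L)) (evW (wordOf L)) _ h
  intro c hc
  rw [psi_pi, fpt_val (vComb_lt c hc)]

/-! ### finiteness of the covering group -/

theorem hSE : ∀ s ∈ ECo2Link.S, ∃ b, s = FreeGroup.of (up b) := by
  intro s hs
  simp only [ECo2Link.S, Set.mem_insert_iff, Set.mem_singleton_iff] at hs
  rcases hs with rfl | rfl | rfl | rfl | rfl
  exacts [⟨.a, rfl⟩, ⟨.b, rfl⟩, ⟨.c, rfl⟩, ⟨.t, rfl⟩, ⟨.d, rfl⟩]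

theorem finite_ECo2' : Finite (PresentedGroup ECo2Link.rels) := by
  haveI : Finite (PresentedGroup DU6.relsE) := cardEU6.1
  obtain ⟨hfin, hle⟩ := card_le_of_subpres ECo2Link.rels DU6.relsE up hrelE ECo2Link.S hSE
  obtain ⟨hq, hqle⟩ := ECo2MainU.mainU
  exact (card_le_of_quot _ hfin hq hqle hle).1

instance finite_ECo2 : Finite DCo2.E := finite_ECo2'

/-- the image of the first involution of the kernel is trivial -/
theorem kill_zb : psiE (emk zb) = 1 := by
  have hs : Function.Surjective piCo2 := (DCo2.isStem_projTo isoCo2).1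
  have hc : piCo2.ker ≤ Subgroup.center DCo2.E := (DCo2.isStem_projTo isoCo2).2.1
  have h3 : ∀ a : Multiplicative (ZMod 3), a ^ 3 = 1 := by decide
  have hcomm : piCo2 (cmk (upWord up g1)) * piCo2 (cmk (upWord up g2)) =
      piCo2 (cmk (upWord up g2)) * piCo2 (cmk (upWord up g1)) := by
    apply co2Iso.injective
    rw [map_mul, map_mul, co2Iso_pi, co2Iso_pi, ← gw_append, ← gw_append]
    exact (sigEq_iff _ _).mp g12_comm
  have h := comm_pow_eq_one_of_mult piCo2 hs hc MM perfect_MM schur_MM 3 h3 (cmk (upWord up g1))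
    (cmk (upWord up g2)) (pi_mem_MM _ g1_ok) (pi_mem_MM _ g2_ok) hcomm
  have e : ⁅cmk (upWord up g1), cmk (upWord up g2)⁆ = psiE (emk zb) := by
    rw [← psiE_emk, ← psiE_emk, ← map_commutatorElement, ← emk_cw_comm, emk_cw, map_mul, kill_zc, mul_one]
  rw [e] at h
  have h2 : psiE (emk zb) ^ 2 = 1 := by rw [← map_pow, zb_pow, map_one]
  calc psiE (emk zb) = psiE (emk zb) ^ 3 * (psiE (emk zb) ^ 2)⁻¹ := by group
    _ = 1 := by rw [h, h2, inv_one, mul_one]

/-! ### the order of the covering group -/

/-- the twelve elements of the kernel of the covering presentation of `PSU₆(2)` -/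
def ws : List (List (EU6Def.Gen × Bool)) := (List.range 12).map wordN

theorem kill_ws : ∀ L ∈ ws, PresentedGroup.mk DCo2.relsE (FreeGroup.mk (upWord up L)) = 1 := by
  intro L hL
  obtain ⟨n, -, rfl⟩ := List.mem_map.mp hL
  show cmk (upWord up (wordN n)) = 1
  rw [← psiE_emk, emk_wordN, map_mul, map_mul, map_pow, map_pow, map_pow, kill_za, kill_zb, kill_zc,
    one_pow, one_pow, one_pow, one_mul, one_mul]

theorem ws_nodup : (ws.map fun L => (PresentedGroup.mk DU6.relsE (FreeGroup.mk L))).Nodup := by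
  unfold ws
  rw [List.map_map]
  apply List.Nodup.map_on _ List.nodup_range
  intro i hi j hj h
  have h1 : emk (wordN i) = emk (wordN j) := h
  have h2 := keyW_eq_of_emk_eq h1
  rw [keyW_wordN, keyW_wordN] at h2
  exact keyN_inj (List.mem_range.mp hi) (List.mem_range.mp hj) h2

theorem cardE : Nat.card DCo2.E ≤ NCo2 := by
  haveI : Finite (PresentedGroup DU6.relsE) := cardEU6.1
  obtain ⟨hfin, hle⟩ := card_le_of_subpres_ker ECo2Link.rels DU6.relsE up hrelE ECo2Link.S hSE ws
    kill_ws ws_nodup
  have h12 : ws.length = 12 := by simp [ws]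
  rw [h12] at hle
  have hH : Nat.card ↥((Subgroup.closure ECo2Link.S).map (PresentedGroup.mk ECo2Link.rels)) ≤ 9196830720 := by
    have := le_trans hle cardEU6.2
    omega
  obtain ⟨hq, hqle⟩ := ECo2MainU.mainU
  exact (card_le_of_quot _ hfin hq hqle hH).2

theorem ker_eq_bot : DCo2.proj.ker = ⊥ := by
  have h1 := DCo2.card_E
  rw [card_PCo2] at h1
  have h2 := cardE
  rw [h1] at h2
  apply Subgroup.eq_bot_of_card_le
  have h3 : Nat.card ↥DCo2.proj.ker * NCo2 ≤ 1 * NCo2 := by rw [one_mul]; exact h2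
  exact Nat.le_of_mul_le_mul_right h3 (by show 0 < 42305421312000; norm_num)

/-- every finite stem extension of the Conway group `Co₂` is an isomorphism -/
theorem trivMult_Co2 : Cfsg.Agent.Lib.Helper28.SchurFox.TrivMult ↥Spor.Co2 := by
  intro Γ _ _ σ hσ
  obtain ⟨Λ, -, -, hker⟩ := DCo2.exists_surj isoCo2 σ hσ
  rw [eq_bot_iff]
  intro z hz
  obtain ⟨e, he, rfl⟩ := hker z hz
  rw [ker_eq_bot, Subgroup.mem_bot] at he
  rw [he, map_one]
  exact Subgroup.one_mem _

/-- the Schur multiplier of the Conway group `Co₂` is trivial -/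
theorem schur_Co2 : Cfsg.HasCyclicSchurMultiplier ↥Spor.Co2 1 :=
  Cfsg.Agent.Lib.Helper28.SchurFox.hasCyclic_of_trivMult trivMult_Co2

end Cfsg.Agent.Lib.Helper21.Co2S
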