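import Cfsg.Agent.Lib.Helper21.Co2.OBasic
import Cfsg.Agent.Lib.Helper21.Co2S.ECo2Def

set_option autoImplicit false

/-!
# The presented group `PCo2` maps onto the Conway group `Co₂` on 4600 points

The seven generators `a, b, c, t, d, x, e` are words in the 20 letters of the permutation group `P ≅ Co₂` on 4600
points; the 34 relators hold, and the two generators of `P` are words in the seven generators.
-/

namespace Cfsg.Agent.Lib.Helper21.Co2S

open Cfsg
open Cfsg.Agent.Lib.Helper10.SX
open Cfsg.Agent.Lib.Helper21.Co2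
open Cfsg.Agent.Lib.Helper3.Cover

noncomputable section

/-- the covering data of the presentation of `Co₂` -/
abbrev DCo2 : CoverData ECo2Def.Gen := ECo2Def.cover

/-- the word of `a` in the 20 letters -/
def wa : List ℕ := [8, 8, 10, 9, 10, 10, 8, 10, 8, 17, 14, 12, 16, 14, 18]

/-- the word of `b` in the 20 letters -/
def wb : List ℕ := [9, 11, 8, 10, 8, 10, 8, 11, 9, 14, 17, 13]

/-- the word of `c` in the 20 letters -/
def wc : List ℕ := [8, 11, 9, 10, 9, 10, 9, 10, 10, 17, 12, 17, 15, 12, 12]

/-- the word of `t` in the 20 letters -/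
def wt : List ℕ := [7, 4, 4, 7, 4, 4, 6, 6, 4, 4, 11, 9, 11, 8, 8, 10, 9, 11, 8, 8, 15, 16, 14, 12]

/-- the word of `d` in the 20 letters -/
def wd : List ℕ := [7, 4, 6, 6, 4, 7, 4, 11, 8, 10, 9, 10, 9, 11, 9, 14, 12, 16, 14, 12]

/-- the word of `x` in the 20 letters -/
def wx : List ℕ := [0, 2, 1, 2, 0, 2, 1, 7, 5, 7, 4, 6, 4, 6, 6, 5, 8, 8, 11, 9, 10, 9, 10, 8, 17, 14, 12, 16]

/-- the word of `e` in the 20 letters -/
def we : List ℕ := [2, 0, 0, 0, 2, 1, 1, 2, 1, 1, 2, 0, 0, 4, 7, 4, 4, 7, 4, 4, 7, 8, 8, 10, 9, 10, 10, 8, 17, 12, 16, 18]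

/-- the words of the generators -/
def wgen : ECo2Def.Gen → List ℕ
  | .a => wa
  | .b => wb
  | .c => wc
  | .t => wt
  | .d => wd
  | .x => wx
  | .e => we

/-- the images of the generators -/
def genP (g : ECo2Def.Gen) : ↥P := gw (wgen g)

/-- the word in the 20 letters of a word in the seven generators -/
def wordOf : List (ECo2Def.Gen × Bool) → List ℕ
  | [] => []
  | (g, true) :: L => wgen g ++ wordOf L
  | (g, false) :: L => winv (wgen g) ++ wordOf L

theorem lift_mk (L : List (ECo2Def.Gen × Bool)) :
    FreeGroup.lift genP (FreeGroup.mk L) = gw (wordOf L) := by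
  rw [FreeGroup.lift_mk]
  induction L with
  | nil => exact gw_nil.symm
  | cons p L ih =>
    obtain ⟨g, b⟩ := p
    rw [List.map_cons, List.prod_cons, ih]
    cases b
    · show (genP g)⁻¹ * _ = gw (winv (wgen g) ++ wordOf L)
      rw [gw_append, gw_winv]
      rfl
    · show genP g * _ = gw (wgen g ++ wordOf L)
      rw [gw_append]
      rfl

set_option maxRecDepth 1000000 in
theorem rel_ok : ∀ L ∈ ECo2Def.R, sigEq (wordOf L) [] = true := by decide +kernel

theorem hrelP : ∀ r ∈ relSet DCo2.R, FreeGroup.lift genP r = 1 := by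
  rintro r ⟨L, hL, rfl⟩
  rw [lift_mk]
  have h : gw (wordOf L) = gw [] := (sigEq_iff _ _).mp (rel_ok L hL)
  rw [h, gw_nil]

/-- the homomorphism from the presented group -/
def fP : DCo2.P →* ↥P := PresentedGroup.toGroup hrelP

theorem fP_of (g : ECo2Def.Gen) : fP (PresentedGroup.of g) = genP g :=
  PresentedGroup.toGroup.of hrelP

theorem fP_mk (L : List (ECo2Def.Gen × Bool)) :
    fP (PresentedGroup.mk (relSet DCo2.R) (FreeGroup.mk L)) = gw (wordOf L) := by
  rw [← lift_mk]
  rfl

/-! ### surjectivity -/

/-- the first generator of `P` as a word in the seven generators -/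
def surjA : List (ECo2Def.Gen × Bool) := [(.d, true), (.e, true), (.a, true), (.d, true), (.c, true), (.d, true), (.e, true), (.t, true), (.b, true), (.a, true), (.b, false), (.b, false), (.a, true), (.b, true), (.t, true), (.a, true), (.d, true), (.b, false), (.t, true), (.c, true), (.b, false), (.a, true)]

/-- the second generator of `P` as a word in the seven generators -/
def surjB : List (ECo2Def.Gen × Bool) := [(.a, true), (.b, true), (.d, true), (.t, true), (.e, true), (.b, false), (.d, true), (.e, true), (.c, true), (.a, true), (.d, true), (.b, false), (.c, true), (.a, true), (.t, true), (.d, true), (.b, false), (.c, true), (.d, true), (.c, true), (.b, true), (.t, true), (.d, true)]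

set_option maxRecDepth 1000000 in
theorem surjA_ok : sigEq (wordOf surjA) [0] = true := by decide +kernel

set_option maxRecDepth 1000000 in
theorem surjB_ok : sigEq (wordOf surjB) [2] = true := by decide +kernel

theorem gw_zero_val : ((gw [0] : ↥P) : Equiv.Perm (Fin 4600)) = perm 4600 cA := by
  show pw [0] = _
  rw [pw_cons, pw_nil, mul_one]
  rfl

theorem gw_two_val : ((gw [2] : ↥P) : Equiv.Perm (Fin 4600)) = perm 4600 cB := by
  show pw [2] = _
  rw [pw_cons, pw_nil, mul_one]
  rfl

theorem fP_surjective : Function.Surjective fP := by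
  have h : P ≤ fP.range.map P.subtype := by
    apply grp_le_iff.mpr
    intro c hc
    simp only [List.mem_cons, List.not_mem_nil, or_false] at hc
    rcases hc with rfl | rfl
    · refine ⟨gw [0], ⟨PresentedGroup.mk _ (FreeGroup.mk surjA), ?_⟩, gw_zero_val⟩
      rw [fP_mk]
      exact (sigEq_iff _ _).mp surjA_ok
    · refine ⟨gw [2], ⟨PresentedGroup.mk _ (FreeGroup.mk surjB), ?_⟩, gw_two_val⟩
      rw [fP_mk]
      exact (sigEq_iff _ _).mp surjB_ok
  intro g
  obtain ⟨g', hg', hgg⟩ := h g.2
  have : g' = g := Subtype.ext hgg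
  rw [← this]
  exact hg'

end

end Cfsg.Agent.Lib.Helper21.Co2S
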